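import Mathlib
import Cfsg.Prelude.Def_Local
import Cfsg.Agent.H27.Comp

set_option autoImplicit false

namespace Cfsg.Agent.H58

open scoped commutatorElement

/-- Elements of a join of two elementwise commuting subgroups are products. -/
theorem mem_sup_of_commute {G : Type*} [Group G] (H K : Subgroup G)
    (hc : ∀ h ∈ H, ∀ k ∈ K, h * k = k * h) {x : G} (hx : x ∈ H ⊔ K) :
    ∃ h ∈ H, ∃ k ∈ K, x = h * k := by
  have hc' : ∀ (m : H) (n : K), Commute (H.subtype m) (K.subtype n) :=
    fun m n => hc m m.2 n n.2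
  have h1 : H ⊔ K ≤ (MonoidHom.noncommCoprod H.subtype K.subtype hc').range := by
    rw [MonoidHom.noncommCoprod_range]
    simp
  obtain ⟨⟨h, k⟩, rfl⟩ := h1 hx
  exact ⟨h, h.2, k, k.2, by simp⟩

/-- The cyclic group generated by an element of square one. -/
theorem mem_zpowers_of_sq {G : Type*} [Group G] {a x : G} (ha : a ^ 2 = 1)
    (hx : x ∈ Subgroup.zpowers a) : x = 1 ∨ x = a := by
  obtain ⟨k, rfl⟩ := Subgroup.mem_zpowers_iff.mp hx
  rcases Int.even_or_odd' k with ⟨m, rfl | rfl⟩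
  · left
    rw [zpow_mul, zpow_ofNat, ha, one_zpow]
  · right
    rw [zpow_add, zpow_mul, zpow_ofNat, ha, one_zpow, one_mul, zpow_one]

/-- The four-group generated by two commuting elements of square one. -/
theorem four_group {G : Type*} [Group G] {a b : G} (ha : a ^ 2 = 1) (hb : b ^ 2 = 1)
    (hab : a * b = b * a) :
    IsMulCommutative ↥(Subgroup.closure ({a, b} : Set G)) ∧
      (∀ x ∈ Subgroup.closure ({a, b} : Set G), x ^ 2 = 1) ∧
      ∀ x ∈ Subgroup.closure ({a, b} : Set G), x = 1 ∨ x = a ∨ x = b ∨ x = a * b := by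
  have hcomm : ∀ x ∈ ({a, b} : Set G), ∀ y ∈ ({a, b} : Set G), x * y = y * x := by
    rintro x (rfl | rfl) y (rfl | rfl)
    · rfl
    · exact hab
    · exact hab.symm
    · rfl
  have hcarrier : ∀ x ∈ Subgroup.closure ({a, b} : Set G),
      x = 1 ∨ x = a ∨ x = b ∨ x = a * b := by
    intro x hx
    have hle : Subgroup.closure ({a, b} : Set G) ≤ Subgroup.zpowers a ⊔ Subgroup.zpowers b := by
      rw [Subgroup.closure_le]
      rintro y (rfl | rfl)
      · exact Subgroup.mem_sup_left (Subgroup.mem_zpowers _)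
      · exact Subgroup.mem_sup_right (Subgroup.mem_zpowers _)
    have hc : ∀ h ∈ Subgroup.zpowers a, ∀ k ∈ Subgroup.zpowers b, h * k = k * h := by
      intro h hh k hk
      rcases mem_zpowers_of_sq ha hh with rfl | rfl <;>
        rcases mem_zpowers_of_sq hb hk with rfl | rfl
      · simp
      · simp
      · simp
      · exact hab
    obtain ⟨h, hh, k, hk, rfl⟩ := mem_sup_of_commute _ _ hc (hle hx)
    rcases mem_zpowers_of_sq ha hh with rfl | rfl <;>
      rcases mem_zpowers_of_sq hb hk with rfl | rfl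
    · left; simp
    · right; right; left; simp
    · right; left; simp
    · right; right; right; rfl
  refine ⟨?_, ?_, hcarrier⟩
  · exact Subgroup.isMulCommutative_closure hcomm
  · intro x hx
    rcases hcarrier x hx with rfl | rfl | rfl | rfl
    · simp
    · exact ha
    · exact hb
    · rw [(show Commute a b from hab).mul_pow, ha, hb, one_mul]

/-- In a finite group of 2-rank at most one, commuting involutions coincide. -/
theorem invol_eq_of_pRankLE {G : Type*} [Group G] [Finite G] (hr : Cfsg.PRankLE 2 1 G) {a b : G}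
    (ha : a ^ 2 = 1) (hb : b ^ 2 = 1) (hab : a * b = b * a) (ha1 : a ≠ 1) : b = 1 ∨ b = a := by
  obtain ⟨h1, h2, -⟩ := four_group ha hb hab
  have hcard := hr _ h1 h2
  by_contra hcon
  push Not at hcon
  have hsub : ({1, a, b} : Set G) ⊆ (Subgroup.closure ({a, b} : Set G) : Set G) := by
    rintro x (rfl | rfl | rfl)
    · exact Subgroup.one_mem _
    · exact Subgroup.subset_closure (by simp)
    · exact Subgroup.subset_closure (by simp)
  have h3 : ({1, a, b} : Set G).ncard = 3 := by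
    rw [Set.ncard_eq_three]
    exact ⟨1, a, b, ha1.symm, hcon.1.symm, (fun h => hcon.2 h.symm), rfl⟩
  have h4 : ({1, a, b} : Set G).ncard ≤ (Subgroup.closure ({a, b} : Set G) : Set G).ncard :=
    Set.ncard_le_ncard hsub (Set.toFinite _)
  have h5 : Nat.card ↥(Subgroup.closure ({a, b} : Set G)) =
      (Subgroup.closure ({a, b} : Set G) : Set G).ncard := Nat.card_coe_set_eq _
  rw [h3, ← h5] at h4
  omega

/-- Subgroup version of `invol_eq_of_pRankLE`. -/
theorem invol_eq_of_pRankLE' {G : Type*} [Group G] [Finite G] (K : Subgroup G)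
    (hr : Cfsg.PRankLE 2 1 ↥K) {a b : G} (haK : a ∈ K) (hbK : b ∈ K)
    (ha : a ^ 2 = 1) (hb : b ^ 2 = 1) (hab : a * b = b * a) (ha1 : a ≠ 1) : b = 1 ∨ b = a := by
  have := invol_eq_of_pRankLE hr (a := ⟨a, haK⟩) (b := ⟨b, hbK⟩) (Subtype.ext (by simpa using ha))
    (Subtype.ext (by simpa using hb)) (Subtype.ext (by simpa using hab))
    (fun h => ha1 (congrArg Subtype.val h))
  rcases this with h | h
  · left; exact congrArg Subtype.val h
  · right; exact congrArg Subtype.val h

/-- An element normalizing a Sylow 2-subgroup with square inside it lies in it. -/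
theorem mem_sylow_of_sq_mem {N : Type*} [Group N] [Finite N] (S : Sylow 2 N) (g : N)
    (hn : ∀ s ∈ (S : Subgroup N), g * s * g⁻¹ ∈ (S : Subgroup N))
    (h2 : g ^ 2 ∈ (S : Subgroup N)) : g ∈ (S : Subgroup N) := by
  have hn' : ∀ s ∈ (S : Subgroup N), g⁻¹ * s * g ∈ (S : Subgroup N) := by
    intro s hs
    have : g⁻¹ * s * g = (g ^ 2)⁻¹ * (g * s * g⁻¹) * g ^ 2 := by rw [pow_two]; group
    rw [this]
    exact Subgroup.mul_mem _ (Subgroup.mul_mem _ (Subgroup.inv_mem _ h2) (hn s hs)) h2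
  have hgn : g ∈ Subgroup.normalizer ((S : Subgroup N) : Set N) := by
    rw [Subgroup.mem_normalizer_iff]
    intro h
    refine ⟨hn h, fun hh => ?_⟩
    have := hn' _ hh
    simpa [mul_assoc] using this
  obtain ⟨k, hk⟩ := S.isPGroup' ⟨g ^ 2, h2⟩
  have hk' : g ^ (2 ^ (k + 1)) = 1 := by
    have := congrArg Subtype.val hk
    simp only [Subgroup.coe_pow, Subgroup.coe_one] at this
    rw [pow_succ', pow_mul]; exact this
  have hz : IsPGroup 2 ↥(Subgroup.zpowers g) := by
    rintro ⟨x, hx⟩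
    obtain ⟨m, rfl⟩ := Subgroup.mem_zpowers_iff.mp hx
    refine ⟨k + 1, Subtype.ext ?_⟩
    simp only [Subgroup.coe_pow, Subgroup.coe_one]
    rw [← zpow_natCast, ← zpow_mul, mul_comm, zpow_mul, zpow_natCast, hk', one_zpow]
  have hsup := hz.to_sup_of_normal_right' S.isPGroup' ((Subgroup.zpowers_le).mpr hgn)
  have heq := S.is_maximal' hsup le_sup_right
  have : g ∈ Subgroup.zpowers g ⊔ (S : Subgroup N) :=
    Subgroup.mem_sup_left (Subgroup.mem_zpowers g)
  rw [heq] at this
  exact this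

/-- A nontrivial finite 2-subgroup has a central involution. -/
theorem exists_central_invol {G : Type*} [Group G] (R : Subgroup G) [Finite R]
    (hR : IsPGroup 2 ↥R) {t : G} (htR : t ∈ R) (ht1 : t ≠ 1) :
    ∃ z ∈ R, z ^ 2 = 1 ∧ z ≠ 1 ∧ ∀ r ∈ R, r * z = z * r := by
  have : Fact (Nat.Prime 2) := ⟨Nat.prime_two⟩
  have : Nontrivial ↥R := ⟨⟨⟨t, htR⟩, 1, fun h => ht1 (congrArg Subtype.val h)⟩⟩
  have := hR.center_nontrivial
  have hcp : IsPGroup 2 ↥(Subgroup.center ↥R) := hR.to_subgroup _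
  have hdvd : 2 ∣ Nat.card ↥(Subgroup.center ↥R) := by
    rcases hcp.card_eq_or_dvd with h | h
    · exact absurd h (Finite.one_lt_card).ne'
    · exact h
  obtain ⟨z, hz⟩ := exists_prime_orderOf_dvd_card' 2 hdvd
  refine ⟨z.1.1, z.1.2, ?_, ?_, ?_⟩
  · have h1 := pow_orderOf_eq_one z
    rw [hz] at h1
    have h2 := congrArg (fun x : ↥(Subgroup.center ↥R) => (x.1.1 : G)) h1
    simpa using h2
  · intro h
    have : z = 1 := Subtype.ext (Subtype.ext h)
    rw [this, orderOf_one] at hz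
    omega
  · intro r hr
    have := Subgroup.mem_center_iff.mp z.2 ⟨r, hr⟩
    exact congrArg Subtype.val this

/-- Normalizer criterion. -/
theorem le_normalizer_of_conj {G : Type*} [Group G] {H K : Subgroup G}
    (h : ∀ k ∈ K, ∀ x ∈ H, k * x * k⁻¹ ∈ H) : K ≤ Subgroup.normalizer (H : Set G) := by
  intro k hk
  rw [Subgroup.mem_normalizer_iff]
  intro x
  refine ⟨h k hk x, fun hx => ?_⟩
  have := h k⁻¹ (K.inv_mem hk) _ hx
  simpa [mul_assoc] using this

/-- In a quasisimple subgroup `Q`, a subgroup normalized by `Q` meets `Q` centrally or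
contains `Q`. -/
theorem quasi_sub {Y : Type*} [Group Y] {Q M : Subgroup Y} (hQ : Cfsg.IsQuasisimple ↥Q)
    (hn : ∀ q ∈ Q, ∀ x ∈ M, q * x * q⁻¹ ∈ M) :
    (∀ x ∈ M, x ∈ Q → ∀ q ∈ Q, q * x = x * q) ∨ Q ≤ M := by
  have : (M.subgroupOf Q).Normal := by
    constructor
    intro n hn' g
    rw [Subgroup.mem_subgroupOf] at hn' ⊢
    exact hn g g.2 n hn'
  rcases Cfsg.Agent.H27.quasisimple_normal hQ (M.subgroupOf Q) with h | h
  · left
    intro x hxM hxQ q hq
    have h1 : (⟨x, hxQ⟩ : Q) ∈ Subgroup.center ↥Q := h (Subgroup.mem_subgroupOf.mpr hxM)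
    exact congrArg Subtype.val (Subgroup.mem_center_iff.mp h1 ⟨q, hq⟩)
  · right
    intro q hq
    have : (⟨q, hq⟩ : Q) ∈ M.subgroupOf Q := by rw [h]; trivial
    exact Subgroup.mem_subgroupOf.mp this

/-- Grün's lemma, elementwise, for a perfect subgroup: an element central modulo the centre
is central. -/
theorem central_of_comm_central {Y : Type*} [Group Y] {Q : Subgroup Y}
    (hQ : Group.IsPerfect ↥Q) {x : Y} (hx : x ∈ Q)
    (h : ∀ y ∈ Q, ∀ q ∈ Q, q * (x⁻¹ * y * x * y⁻¹) = (x⁻¹ * y * x * y⁻¹) * q) :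
    ∀ q ∈ Q, q * x = x * q := by
  have hbot := Group.IsPerfect.center_quotient_center_eq_bot ↥Q
  have hmem : (QuotientGroup.mk' (Subgroup.center ↥Q) ⟨x, hx⟩) ∈
      Subgroup.center (↥Q ⧸ Subgroup.center ↥Q) := by
    rw [Subgroup.mem_center_iff]
    intro q'
    obtain ⟨y, rfl⟩ := QuotientGroup.mk'_surjective _ q'
    rw [← map_mul, ← map_mul, QuotientGroup.mk'_apply, QuotientGroup.mk'_apply, QuotientGroup.eq,
      Subgroup.mem_center_iff]
    intro q
    have h1 := h (y : Y)⁻¹ (Q.inv_mem y.2) q q.2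
    have e : ((y : Y) * x)⁻¹ * (x * (y : Y)) = x⁻¹ * (y : Y)⁻¹ * x * (y : Y)⁻¹⁻¹ := by group
    apply Subtype.ext
    simp only [Subgroup.coe_mul, Subgroup.coe_inv]
    rw [e]
    exact h1
  rw [hbot, Subgroup.mem_bot] at hmem
  have hxc : (⟨x, hx⟩ : Q) ∈ Subgroup.center ↥Q := by
    rwa [QuotientGroup.mk'_apply, QuotientGroup.eq_one_iff] at hmem
  intro q hq
  exact congrArg Subtype.val (Subgroup.mem_center_iff.mp hxc ⟨q, hq⟩)

end Cfsg.Agent.H58
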