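import Mathlib

set_option autoImplicit false

namespace Cfsg.Agent.H58

open scoped Pointwise

/-- Sylow: a `p`-subgroup can be conjugated into a given Sylow `p`-subgroup. -/
theorem sylow_conj_le {H : Type*} [Group H] [Finite H] {p : ℕ} [Fact p.Prime]
    (Q : Sylow p H) (B : Subgroup H) (hB : IsPGroup p B) :
    ∃ c : H, ∀ b ∈ B, c * b * c⁻¹ ∈ (Q : Subgroup H) := by
  obtain ⟨Q', hQ'⟩ := hB.exists_le_sylow
  obtain ⟨c, hc⟩ := MulAction.exists_smul_eq H Q' Q
  refine ⟨c, fun b hb => ?_⟩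
  have h1 : MulAut.conj c • b ∈ MulAut.conj c • (Q' : Subgroup H) :=
    Subgroup.smul_mem_pointwise_smul _ _ _ (hQ' hb)
  rw [← Sylow.coe_subgroup_smul, hc] at h1
  simpa [MulAut.smul_def] using h1

end Cfsg.Agent.H58
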