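import Mathlib
import Cfsg.Agent.H58.Basic

set_option autoImplicit false

namespace Cfsg.Agent.H58

open scoped Pointwise

/-- Normalizers grow in `p`-groups. -/
theorem exists_normalizer_mem {G : Type*} [Group G] {p : ℕ} [Fact p.Prime] (S D : Subgroup G)
    [Finite S] (hS : IsPGroup p S) (hDS : D ≤ S) (hne : D ≠ S) :
    ∃ s ∈ S, s ∉ D ∧ s ∈ Subgroup.normalizer (D : Set G) := by
  haveI : Group.IsNilpotent S := hS.isNilpotent
  have hnc : NormalizerCondition S := Group.normalizerCondition_of_isNilpotent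
  have hlt : D.subgroupOf S < ⊤ := by
    rw [lt_top_iff_ne_top]
    intro h
    rw [Subgroup.subgroupOf_eq_top] at h
    exact hne (le_antisymm hDS h)
  have h1 := hnc _ hlt
  obtain ⟨s, hsN, hsD⟩ := SetLike.exists_of_lt h1
  refine ⟨s, s.2, ?_, ?_⟩
  · intro h
    exact hsD (Subgroup.mem_subgroupOf.mpr h)
  · rw [← Subgroup.subgroupOf_normalizer_eq hDS] at hsN
    exact Subgroup.mem_subgroupOf.mp hsN

/-- A `p`-subgroup is no larger than a Sylow `p`-subgroup. -/
theorem card_le_sylow {G : Type*} [Group G] [Finite G] {p : ℕ} [Fact p.Prime] (P : Subgroup G)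
    (hP : IsPGroup p P) (S : Sylow p G) : Nat.card P ≤ Nat.card S := by
  obtain ⟨Q, hQ⟩ := hP.exists_le_sylow
  calc Nat.card P ≤ Nat.card Q := Subgroup.card_le_of_le hQ
    _ = Nat.card S := by rw [Q.card_eq_multiplicity, S.card_eq_multiplicity]

/-- Membership in the centre of a subgroup, viewed in the ambient group. -/
theorem mem_center_map {G : Type*} [Group G] (U : Subgroup G) (z : G) :
    z ∈ (Subgroup.center ↥U).map U.subtype ↔ z ∈ U ∧ ∀ u ∈ U, u * z = z * u := by
  constructor
  · rintro ⟨⟨z, hz⟩, hzc, rfl⟩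
    refine ⟨hz, fun u hu => ?_⟩
    have := Subgroup.mem_center_iff.mp hzc ⟨u, hu⟩
    exact congrArg Subtype.val this
  · rintro ⟨hz, h⟩
    exact ⟨⟨z, hz⟩, Subgroup.mem_center_iff.mpr (fun u => Subtype.ext (h u u.2)), rfl⟩

/-- Membership in a conjugate Sylow subgroup. -/
theorem mem_smul_sylow {G : Type*} [Group G] {p : ℕ} (U : Sylow p G) (n g : G) :
    g ∈ ((n • U : Sylow p G) : Subgroup G) ↔ n⁻¹ * g * n ∈ (U : Subgroup G) := by
  rw [Sylow.coe_subgroup_smul, Subgroup.mem_pointwise_smul_iff_inv_smul_mem]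
  simp [MulAut.smul_def]

/-- Two Sylow subgroups one of which contains the other are equal. -/
theorem sylow_eq_of_le {G : Type*} [Group G] [Finite G] {p : ℕ} [Fact p.Prime] (S U : Sylow p G)
    (h : (S : Subgroup G) ≤ U) : S = U := by
  apply Sylow.ext
  exact Subgroup.eq_of_le_of_card_ge h (by rw [S.card_eq_multiplicity, U.card_eq_multiplicity])

end Cfsg.Agent.H58
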