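import Mathlib
import Cfsg.Prelude.Def_Balance
import Cfsg.Agent.S1324
import Cfsg.Agent.H58.Sylow2
import Cfsg.Agent.H58.Std

set_option autoImplicit false

namespace Cfsg.Agent.H58

/-- The order of a `q`-group is prime to `p ≠ q`. -/
theorem not_dvd_card_of_isPGroup {G : Type*} [Group G] [Finite G] {p q : ℕ} [Fact p.Prime]
    [Fact q.Prime] (hqp : q ≠ p) (Q : Subgroup G) (hQ : IsPGroup q ↥Q) : ¬ p ∣ Nat.card ↥Q := by
  intro h
  obtain ⟨n, hn⟩ := IsPGroup.iff_card.mp hQ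
  rw [hn] at h
  have h1 := (Fact.out : p.Prime).dvd_of_dvd_pow h
  exact hqp ((Nat.prime_dvd_prime_iff_eq (Fact.out : p.Prime) (Fact.out : q.Prime)).mp h1).symm

/-- Hyperplane lemma: a noncyclic elementary abelian `p`-group `A` normalizing a `q`-group `Q`
and a proper subgroup `D` of `Q` has a subgroup `B` of index at most `p` such that
`N_Q(D) ∩ C(B)` is not inside `D`. -/
theorem exists_hyperplane {G : Type*} [Group G] [Finite G] (p : ℕ) [Fact p.Prime]
    (A : Subgroup G) (hA : Cfsg.IsElementaryAbelian p A) (hA2 : p ^ 2 ≤ Nat.card ↥A) (q : ℕ)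
    [Fact q.Prime] (hqp : q ≠ p) (Q D : Subgroup G) (hQ : IsPGroup q ↥Q)
    (hAQ : A ≤ Subgroup.normalizer (Q : Set G)) (hAD : A ≤ Subgroup.normalizer (D : Set G))
    (hDQ : D ≤ Q) (hne : D ≠ Q) :
    ∃ B : Subgroup G, B ≤ A ∧ B.relIndex A ≤ p ∧
      ¬ (Subgroup.normalizer (D : Set G) ⊓ Q ⊓ Subgroup.centralizer (B : Set G) ≤ D) := by
  by_contra hcon
  push Not at hcon
  have hXq : IsPGroup q ↥(Subgroup.normalizer (D : Set G) ⊓ Q) := hQ.to_le inf_le_right
  have hXp : ¬ p ∣ Nat.card ↥(Subgroup.normalizer (D : Set G) ⊓ Q) :=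
    not_dvd_card_of_isPGroup hqp _ hXq
  have hAX : A ≤ Subgroup.normalizer ((Subgroup.normalizer (D : Set G) ⊓ Q : Subgroup G) : Set G) := by
    apply le_normalizer_of_conj
    intro a ha x hx
    have ha' := hAD ha
    exact Subgroup.mem_inf.mpr
      ⟨Subgroup.mul_mem _ (Subgroup.mul_mem _ ha' hx.1) (Subgroup.inv_mem _ ha'),
        (Subgroup.mem_normalizer_iff.mp (hAQ ha) x).mp hx.2⟩
  have hgen := Cfsg.Agent.S1324.result p A _ hA hA2 hXp hAX
  have hle : Subgroup.normalizer (D : Set G) ⊓ Q ≤ D := by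
    rw [hgen]
    apply iSup_le
    rintro ⟨B, hBA, hBi⟩
    exact hcon B hBA hBi
  obtain ⟨s, hsQ, hsD, hsN⟩ := exists_normalizer_mem Q D hQ hDQ hne
  exact hsD (hle ⟨hsN, hsQ⟩)

end Cfsg.Agent.H58
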