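import Mathlib
import Cfsg.Prelude.Def_Balance
import Cfsg.Agent.H40.PCore
import Cfsg.Agent.H58.Sig

set_option autoImplicit false

namespace Cfsg.Agent.H58

/-- Elements of `X ⊔ Y` are products when `Y` normalizes `X`. -/
theorem mem_sup_of_le_normalizer {G : Type*} [Group G] {X Y : Subgroup G}
    (hn : Y ≤ Subgroup.normalizer (X : Set G)) {u : G} (hu : u ∈ X ⊔ Y) :
    ∃ x ∈ X, ∃ y ∈ Y, u = x * y := by
  have hc : ∀ y ∈ Y, ∀ x ∈ X, y * x * y⁻¹ ∈ X := fun y hy x hx =>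
    (Subgroup.mem_normalizer_iff.mp (hn hy) x).mp hx
  rw [Subgroup.sup_eq_closure] at hu
  refine Subgroup.closure_induction ?_ ?_ ?_ ?_ hu
  · rintro x (hx | hx)
    · exact ⟨x, hx, 1, Y.one_mem, by simp⟩
    · exact ⟨1, X.one_mem, x, hx, by simp⟩
  · exact ⟨1, X.one_mem, 1, Y.one_mem, by simp⟩
  · rintro _ _ _ _ ⟨x₁, hx₁, y₁, hy₁, rfl⟩ ⟨x₂, hx₂, y₂, hy₂, rfl⟩
    exact ⟨x₁ * (y₁ * x₂ * y₁⁻¹), X.mul_mem hx₁ (hc y₁ hy₁ x₂ hx₂), y₁ * y₂, Y.mul_mem hy₁ hy₂,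
      by group⟩
  · rintro _ _ ⟨x, hx, y, hy, rfl⟩
    exact ⟨y⁻¹ * x⁻¹ * y⁻¹⁻¹, hc y⁻¹ (Y.inv_mem hy) x⁻¹ (X.inv_mem hx), y⁻¹, Y.inv_mem hy,
      by group⟩

/-- `X.subgroupOf (X ⊔ Y)` is normal when `Y` normalizes `X`. -/
theorem normal_subgroupOf_sup {G : Type*} [Group G] {X Y : Subgroup G}
    (hn : Y ≤ Subgroup.normalizer (X : Set G)) : (X.subgroupOf (X ⊔ Y)).Normal :=
  (Subgroup.normal_subgroupOf_iff_le_normalizer le_sup_left).mpr
    (sup_le Subgroup.le_normalizer hn)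

/-- `|XY|` divides `|X| |Y|` when `Y` normalizes `X`. -/
theorem card_sup_dvd {G : Type*} [Group G] [Finite G] {X Y : Subgroup G}
    (hn : Y ≤ Subgroup.normalizer (X : Set G)) :
    Nat.card ↥(X ⊔ Y) ∣ Nat.card ↥X * Nat.card ↥Y := by
  have hN : (X.subgroupOf (X ⊔ Y)).Normal := normal_subgroupOf_sup hn
  have h1 := Cfsg.Agent.H40.card_sup_dvd_mul (Y.subgroupOf (X ⊔ Y)) (X.subgroupOf (X ⊔ Y))
  have h2 : Y.subgroupOf (X ⊔ Y) ⊔ X.subgroupOf (X ⊔ Y) = ⊤ := by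
    rw [← Subgroup.subgroupOf_sup le_sup_right le_sup_left, sup_comm, Subgroup.subgroupOf_self]
  rw [h2, Subgroup.card_top] at h1
  have h3 : Nat.card ↥(Y.subgroupOf (X ⊔ Y)) = Nat.card ↥Y :=
    Nat.card_congr (Subgroup.subgroupOfEquivOfLe le_sup_right).toEquiv
  have h4 : Nat.card ↥(X.subgroupOf (X ⊔ Y)) = Nat.card ↥X :=
    Nat.card_congr (Subgroup.subgroupOfEquivOfLe le_sup_left).toEquiv
  rw [h3, h4, mul_comm] at h1
  exact h1

/-- `XY` is solvable when `X`, `Y` are and `Y` normalizes `X`. -/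
theorem isSolvable_sup {G : Type*} [Group G] {X Y : Subgroup G}
    (hn : Y ≤ Subgroup.normalizer (X : Set G)) (hX : Group.IsSolvable ↥X)
    (hY : Group.IsSolvable ↥Y) : Group.IsSolvable ↥(X ⊔ Y) := by
  have hN : (X.subgroupOf (X ⊔ Y)).Normal := normal_subgroupOf_sup hn
  have hNs : Group.IsSolvable ↥(X.subgroupOf (X ⊔ Y)) :=
    Group.isSolvable_of_isSolvable_injective
      (f := (Subgroup.subgroupOfEquivOfLe (le_sup_left : X ≤ X ⊔ Y)).toMonoidHom)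
      (Subgroup.subgroupOfEquivOfLe (le_sup_left : X ≤ X ⊔ Y)).injective
  let φ : ↥Y →* ↥(X ⊔ Y) ⧸ X.subgroupOf (X ⊔ Y) :=
    (QuotientGroup.mk' (X.subgroupOf (X ⊔ Y))).comp (Subgroup.inclusion (le_sup_right : Y ≤ X ⊔ Y))
  have hφ : Function.Surjective φ := by
    intro q
    obtain ⟨⟨u, hu⟩, rfl⟩ := QuotientGroup.mk'_surjective _ q
    obtain ⟨x, hx, y, hy, rfl⟩ := mem_sup_of_le_normalizer hn hu
    refine ⟨⟨y, hy⟩, ?_⟩
    show QuotientGroup.mk' (X.subgroupOf (X ⊔ Y)) (Subgroup.inclusion le_sup_right ⟨y, hy⟩) =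
      QuotientGroup.mk' (X.subgroupOf (X ⊔ Y)) ⟨x * y, hu⟩
    rw [QuotientGroup.mk'_apply, QuotientGroup.mk'_apply, QuotientGroup.eq]
    rw [Subgroup.mem_subgroupOf]
    have : (((Subgroup.inclusion (le_sup_right : Y ≤ X ⊔ Y) ⟨y, hy⟩)⁻¹ *
        (⟨x * y, hu⟩ : ↥(X ⊔ Y)) : ↥(X ⊔ Y)) : G) = y⁻¹ * x * y⁻¹⁻¹ := by
      simp only [Subgroup.coe_mul, Subgroup.coe_inv, Subgroup.coe_inclusion]
      group
    rw [this]
    exact (Subgroup.mem_normalizer_iff.mp (hn (Y.inv_mem hy)) x).mp hx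
  have hQs : Group.IsSolvable (↥(X ⊔ Y) ⧸ X.subgroupOf (X ⊔ Y)) :=
    Group.isSolvable_of_surjective hφ
  exact Group.isSolvable_of_ker_le_range (X.subgroupOf (X ⊔ Y)).subtype
    (QuotientGroup.mk' (X.subgroupOf (X ⊔ Y))) (by simp)

/-- The subgroup generated by an element of prime order `p`. -/
theorem card_zpowers_of_pow {G : Type*} [Group G] {p : ℕ} [Fact p.Prime] {a : G} (ha1 : a ≠ 1)
    (hap : a ^ p = 1) : Nat.card ↥(Subgroup.zpowers a) = p := by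
  rw [Nat.card_zpowers]
  exact orderOf_eq_prime hap ha1

/-- Cyclic subgroups are solvable. -/
theorem isSolvable_zpowers {G : Type*} [Group G] (a : G) :
    Group.IsSolvable ↥(Subgroup.zpowers a) := by
  apply Group.isSolvable_of_comm
  rintro ⟨x, hx⟩ ⟨y, hy⟩
  obtain ⟨i, rfl⟩ := Subgroup.mem_zpowers_iff.mp hx
  obtain ⟨j, rfl⟩ := Subgroup.mem_zpowers_iff.mp hy
  apply Subtype.ext
  show a ^ i * a ^ j = a ^ j * a ^ i
  rw [← zpow_add, ← zpow_add, add_comm]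

/-- Centralizing an element is the same as centralizing the cyclic subgroup it generates. -/
theorem mem_centralizer_zpowers_iff {G : Type*} [Group G] {a u : G} :
    u ∈ Subgroup.centralizer ((Subgroup.zpowers a : Subgroup G) : Set G) ↔
      u ∈ Subgroup.centralizer ({a} : Set G) := by
  constructor
  · intro h
    rw [Subgroup.mem_centralizer_iff] at h ⊢
    intro x hx
    rw [Set.mem_singleton_iff] at hx
    rw [hx]
    exact h a (Subgroup.mem_zpowers a)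
  · intro h
    rw [Subgroup.mem_centralizer_iff]
    intro x hx
    obtain ⟨i, rfl⟩ := Subgroup.mem_zpowers_iff.mp hx
    have h1 : Commute a u := (Subgroup.mem_centralizer_singleton_iff.mp h).symm
    exact (h1.zpow_left i).eq

/-- Data for applying coprime action with the cyclic group generated by a nonidentity element of
an elementary abelian `p`-group. -/
theorem coprime_zpowers {G : Type*} [Group G] {p : ℕ} [Fact p.Prime] {a : G} (ha1 : a ≠ 1)
    (hap : a ^ p = 1) (K : Subgroup G) (hK : ¬ p ∣ Nat.card ↥K) :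
    (Nat.card ↥(Subgroup.zpowers a)).Coprime (Nat.card ↥K) := by
  rw [card_zpowers_of_pow ha1 hap]
  exact (Nat.Prime.coprime_iff_not_dvd Fact.out).mpr hK

end Cfsg.Agent.H58
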