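import Mathlib
import Cfsg.Agent.H24.QuadGroup
import Cfsg.Agent.H24.QuadStable
import Cfsg.Agent.S3740
import Cfsg.Agent.H66.HHA
import Cfsg.Agent.H80.SolvPSolv
import Cfsg.Agent.H1.Coprime
import Cfsg.Agent.H13.PCore
import Cfsg.Agent.H60.Cores
import Cfsg.Agent.H14.Factor
import Cfsg.Agent.H14.Replacement

/-!
# `p`-stability of solvable groups (`p ≥ 5`), via the `SL₂` lemma S3740

`PStar p D`: every `p`-element of `D` normalizing a `p'`-subgroup `R` centralizes it.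
A finite solvable group with `PStar` has a normal Sylow `p`-subgroup (all `p`-elements lie
in `O_p`).  Subgroups of `SL(2, K)` (`char K = p ≥ 5`) have `PStar` by S3740, which replaces
the "abelian 2-subgroups" input of helper24's quadratic-action chain.
-/

set_option autoImplicit false

namespace Cfsg.Agent.H58

open scoped commutatorElement Pointwise
open Cfsg

universe u v w

/-- every `p`-element normalizing a `p'`-subgroup centralizes it. -/
def PStar (p : ℕ) (D : Type*) [Group D] : Prop :=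
  ∀ a : D, (∃ k : ℕ, a ^ p ^ k = 1) → ∀ R : Subgroup D, (Nat.card R).Coprime p →
    a ∈ Subgroup.normalizer (R : Set D) → ∀ r ∈ R, a * r = r * a

theorem pstar_quotient_pCore {p : ℕ} [Fact p.Prime] {D : Type*} [Group D] [Finite D]
    (h : PStar p D) : PStar p (D ⧸ pCore p D) := by
  have hp : p.Prime := Fact.out
  have hQp : IsPGroup p (pCore p D) := H13.pCore_isPGroup p D
  set Q := pCore p D with hQ
  intro ab hab Rb hRb habn rb hrb
  obtain ⟨k, hk⟩ := hab
  obtain ⟨a, rfl⟩ := QuotientGroup.mk'_surjective Q ab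
  set π := QuotientGroup.mk' Q with hπ
  have hπQ : ∀ x ∈ Q, π x = 1 := fun x hx => (QuotientGroup.eq_one_iff x).mpr hx
  set R₁ := Rb.comap π with hR₁
  have hQR₁ : Q ≤ R₁ := by
    intro x hx
    show π x ∈ Rb
    rw [hπQ x hx]; exact one_mem _
  obtain ⟨j, hj⟩ := hQp.exists_card_eq
  have hcardN : Nat.card (Q.subgroupOf R₁) = p ^ j := by
    rw [H1.card_subgroupOf_of_le hQR₁, hj]
  have hidx : (Q.subgroupOf R₁).index = Nat.card Rb := H24.Quad.relIndex_comap_mk' Q Rb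
  have hcopN : (Nat.card (Q.subgroupOf R₁)).Coprime (Q.subgroupOf R₁).index := by
    rw [hcardN, hidx]
    exact (Nat.Coprime.pow_right j hRb).symm
  obtain ⟨H, hH⟩ := Subgroup.exists_right_complement'_of_coprime hcopN
  set R := H.map R₁.subtype with hR
  have hRR₁ : R ≤ R₁ := Subgroup.map_subtype_le H
  have hcardR : Nat.card R = Nat.card Rb := by
    rw [hR, Subgroup.card_map_of_injective (Subgroup.subtype_injective _), ← hidx]
    exact hH.symm.index_eq_card.symm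
  have hR₁le : R₁ ≤ R ⊔ Q := by
    have h1 : (Q.subgroupOf R₁ ⊔ H).map R₁.subtype = (⊤ : Subgroup R₁).map R₁.subtype := by
      rw [hH.sup_eq_top]
    rw [Subgroup.map_sup, ← MonoidHom.range_eq_map, Subgroup.range_subtype] at h1
    rw [← h1]
    refine sup_le ?_ le_sup_left
    refine le_trans ?_ le_sup_right
    rintro _ ⟨x, hx, rfl⟩
    exact hx
  have hRn : R ≤ Subgroup.normalizer (Q : Set D) := by
    rw [Subgroup.normalizer_eq_top]; exact le_top
  have hcop : (Nat.card R).Coprime (Nat.card Q) := by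
    rw [hcardR, hj]; exact Nat.Coprime.pow_right j hRb
  have hQnil : Group.IsNilpotent Q := hQp.isNilpotent
  have hBle : MulAut.conj a • R ≤ R ⊔ Q := by
    refine le_trans ?_ hR₁le
    intro x hx
    rw [H1.mem_conj_smul_iff] at hx
    show π x ∈ Rb
    have h2 : π (a⁻¹ * x * a) ∈ Rb := hRR₁ hx
    have h3 := (Subgroup.mem_normalizer_iff.mp habn (π (a⁻¹ * x * a))).mp h2
    have h4 : π a * π (a⁻¹ * x * a) * (π a)⁻¹ = π x := by
      rw [← map_inv, ← map_mul, ← map_mul]; congr 1; group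
    rw [← h4]; exact h3
  obtain ⟨d, hd, hdR⟩ := H1.sz_conj_internal R Q (MulAut.conj a • R) hRn hcop
    (Or.inr inferInstance) hBle (H1.card_conj_smul _ _)
  have ha'n : d⁻¹ * a ∈ Subgroup.normalizer (R : Set D) := by
    rw [H1.mem_normalizer_iff_conj_smul, H1.conj_mul_smul, ← hdR, H1.conj_inv_smul_conj_smul]
  have hπa' : π (d⁻¹ * a) = π a := by
    rw [map_mul, map_inv, hπQ d hd, inv_one, one_mul]
  have ha'p : ∃ k' : ℕ, (d⁻¹ * a) ^ p ^ k' = 1 := by
    have h1 : (d⁻¹ * a) ^ p ^ k ∈ Q := by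
      rw [← QuotientGroup.eq_one_iff, ← hk]
      show π ((d⁻¹ * a) ^ p ^ k) = π a ^ p ^ k
      rw [map_pow, hπa']
    obtain ⟨i, hi⟩ := hQp ⟨_, h1⟩
    refine ⟨k + i, ?_⟩
    have h2 := congrArg Subtype.val hi
    rw [Subgroup.coe_pow, Subgroup.coe_one] at h2
    rw [pow_add, pow_mul]; exact h2
  have hRcop : (Nat.card R).Coprime p := by rw [hcardR]; exact hRb
  have hcomm := h (d⁻¹ * a) ha'p R hRcop ha'n
  -- lift `rb`
  have hrb1 : rb ∈ (R ⊔ Q).map π := by
    obtain ⟨x, hx⟩ := QuotientGroup.mk'_surjective Q rb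
    have hx' : π x = rb := hx
    have hxR₁ : x ∈ R₁ := by
      show π x ∈ Rb
      rw [hx']; exact hrb
    exact ⟨x, hR₁le hxR₁, hx'⟩
  have hQmap : Q.map π = ⊥ := by
    rw [eq_bot_iff]; rintro _ ⟨x, hx, rfl⟩; exact hπQ x hx
  rw [Subgroup.map_sup, hQmap, sup_bot_eq] at hrb1
  obtain ⟨r, hr, hrr⟩ := hrb1
  have h5 := congrArg π (hcomm r hr)
  rw [map_mul π (d⁻¹ * a) r, map_mul π r (d⁻¹ * a), hπa', hrr] at h5
  exact h5

theorem mem_pCore_of_pstar {p : ℕ} [Fact p.Prime] {D : Type u} [Group D] [Finite D]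
    [Group.IsSolvable D] (h : PStar p D) (a : D) (ha : ∃ k : ℕ, a ^ p ^ k = 1) :
    a ∈ pCore p D := by
  have hb := pstar_quotient_pCore h
  have hcore : pCore p (D ⧸ pCore p D) = ⊥ := H66.pCore_quotient_pCore_bot p
  have hsolv : IsPSolvable p (D ⧸ pCore p D) :=
    H80.isPSolvable_of_isSolvable p _ (D ⧸ pCore p D) rfl
  have hC := H66.centralizer_pPrimeCore_le p hsolv hcore
  obtain ⟨k, hk⟩ := ha
  set π := QuotientGroup.mk' (pCore p D) with hπ
  have hpk : π a ^ p ^ k = 1 := by rw [← map_pow, hk, map_one]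
  have hab : π a ∈ pPrimeCore p (D ⧸ pCore p D) := by
    apply hC
    rw [Subgroup.mem_centralizer_iff]
    intro r hr
    refine (hb (π a) ⟨k, hpk⟩ (pPrimeCore p (D ⧸ pCore p D)) (H14.pPrimeCore_coprime p _) ?_
      r hr).symm
    rw [Subgroup.normalizer_eq_top]; trivial
  have h1 : π a = 1 := by
    have hord : orderOf (π a) ∣ p ^ k := orderOf_dvd_of_pow_eq_one hpk
    have hord2 : orderOf (π a) ∣ Nat.card (pPrimeCore p (D ⧸ pCore p D)) :=
      Subgroup.orderOf_dvd_natCard _ hab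
    have hc : (orderOf (π a)).Coprime (p ^ k) :=
      Nat.Coprime.coprime_dvd_left hord2 (Nat.Coprime.pow_right k (H14.pPrimeCore_coprime p _))
    exact orderOf_eq_one_iff.mp (Nat.Coprime.eq_one_of_dvd hc hord)
  exact (QuotientGroup.eq_one_iff a).mp h1

theorem isPGroup_zpowers_of_pow' {p : ℕ} [Fact p.Prime] {G : Type*} [Group G] {c : G} {k : ℕ}
    (hc : c ^ p ^ k = 1) : IsPGroup p (Subgroup.zpowers c) := by
  have hdvd : orderOf c ∣ p ^ k := orderOf_dvd_of_pow_eq_one hc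
  obtain ⟨j, -, hj⟩ := (Nat.dvd_prime_pow (Fact.out : p.Prime)).mp hdvd
  exact IsPGroup.of_card (n := j) (by rw [Nat.card_zpowers, hj])

/-- Subgroups of `SL(2, K)`, `char K = p ≥ 5`, have `PStar` (S3740). -/
theorem sl2_pstar {p : ℕ} [Fact p.Prime] (K : Type) [Field K] [Fintype K] [CharP K p]
    (hp2 : p ≠ 2) (hp3 : p ≠ 3) (D : Subgroup (Matrix.SpecialLinearGroup (Fin 2) K)) :
    PStar p ↥D := by
  intro a hak R hR han r hr
  obtain ⟨k, hk⟩ := hak
  by_contra hne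
  have hk' : (a : Matrix.SpecialLinearGroup (Fin 2) K) ^ p ^ k = 1 := by
    have := congrArg Subtype.val hk
    rwa [Subgroup.coe_pow, Subgroup.coe_one] at this
  have ha : IsPGroup p (Subgroup.zpowers (a : Matrix.SpecialLinearGroup (Fin 2) K)) :=
    isPGroup_zpowers_of_pow' hk'
  have hR' : (Nat.card (R.map D.subtype)).Coprime p := by
    rw [Subgroup.card_map_of_injective D.subtype_injective]; exact hR
  have han' : (a : Matrix.SpecialLinearGroup (Fin 2) K) ∈
      Subgroup.normalizer ((R.map D.subtype : Subgroup _) : Set _) := by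
    rw [Subgroup.mem_normalizer_iff]
    intro x
    constructor
    · rintro ⟨y, hy, rfl⟩
      exact ⟨a * y * a⁻¹, (Subgroup.mem_normalizer_iff.mp han y).mp hy, rfl⟩
    · rintro ⟨y, hy, hyx⟩
      have h1 := (Subgroup.mem_normalizer_iff.mp (inv_mem han) y).mp hy
      refine ⟨a⁻¹ * y * a⁻¹⁻¹, h1, ?_⟩
      have h2 : D.subtype (a⁻¹ * y * a⁻¹⁻¹) = (a : Matrix.SpecialLinearGroup (Fin 2) K)⁻¹ *
          D.subtype y * (a : Matrix.SpecialLinearGroup (Fin 2) K) := by
        simp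
      rw [h2, hyx]; group
  have hnt : ⁅R.map D.subtype, Subgroup.zpowers (a : Matrix.SpecialLinearGroup (Fin 2) K)⁆ ≠ ⊥ := by
    intro hbot
    have h1 : ⁅(r : Matrix.SpecialLinearGroup (Fin 2) K), (a : Matrix.SpecialLinearGroup (Fin 2) K)⁆ ∈
        ⁅R.map D.subtype, Subgroup.zpowers (a : Matrix.SpecialLinearGroup (Fin 2) K)⁆ :=
      Subgroup.commutator_mem_commutator ⟨r, hr, rfl⟩ (Subgroup.mem_zpowers _)
    rw [hbot, Subgroup.mem_bot, commutatorElement_eq_one_iff_mul_comm] at h1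
    exact hne (Subtype.ext h1.symm)
  exact hp3 (Cfsg.Agent.S3740.result K hp2 (a : Matrix.SpecialLinearGroup (Fin 2) K) ha
    (R.map D.subtype) hR' han' hnt).1

/-- Solvable replacement for helper24's `sl2_pg`. -/
theorem sl2_pg_solv {p : ℕ} [Fact p.Prime] {K : Type} [Field K] [Fintype K] [CharP K p]
    (hp2 : p ≠ 2) (hp3 : p ≠ 3) {Γ : Type w} [Group Γ] [Finite Γ] [Group.IsSolvable Γ] {x y : Γ}
    (hgen : Subgroup.closure {x, y} = ⊤) (φ : Γ →* Matrix.SpecialLinearGroup (Fin 2) K)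
    (hx00 : (φ x).1 0 0 = 1) (hx10 : (φ x).1 1 0 = 0) (hy01 : (φ y).1 0 1 = 0)
    (hy11 : (φ y).1 1 1 = 1) : H24.Quad.PG p φ := by
  have hst : PStar p φ.range := sl2_pstar K hp2 hp3 φ.range
  have hsol : Group.IsSolvable φ.range :=
    Group.isSolvable_of_surjective φ.rangeRestrict_surjective
  have hxp : (φ.rangeRestrict x) ^ p ^ 1 = 1 :=
    Subtype.ext (by rw [pow_one]; exact H24.Quad.pow_of_sq (H24.Quad.upper_sq hx00 hx10))
  have hyp : (φ.rangeRestrict y) ^ p ^ 1 = 1 :=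
    Subtype.ext (by rw [pow_one]; exact H24.Quad.pow_of_sq (H24.Quad.lower_sq hy01 hy11))
  have hall : ∀ g, φ.rangeRestrict g ∈ pCore p φ.range := by
    refine H24.Quad.closure_pair_induction hgen (by rw [map_one]; exact one_mem _)
      (mem_pCore_of_pstar hst _ ⟨1, hxp⟩) (mem_pCore_of_pstar hst _ ⟨1, hyp⟩) ?_ ?_
    · intro g h hg hh; rw [map_mul]; exact mul_mem hg hh
    · intro g hg; rw [map_inv]; exact inv_mem hg
  intro g
  obtain ⟨k, hk⟩ := (H13.pCore_isPGroup p φ.range) ⟨_, hall g⟩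
  refine ⟨k, ?_⟩
  have h1 := congrArg (fun z : pCore p φ.range => ((z : φ.range) : Matrix.SpecialLinearGroup (Fin 2) K)) hk
  simpa using h1

open TensorProduct in
/-- Solvable version (`p ≥ 5`) of helper24's `quad_pg` (same proof, `sl2_pg_solv` at the end). -/
theorem quad_pg_solv {p : ℕ} [Fact p.Prime] (hp2 : p ≠ 2) (hp3 : p ≠ 3) {V : Type v}
    [AddCommGroup V] [Module (ZMod p) V] [Finite V]
    {Γ : Type w} [Group Γ] [Finite Γ] [Group.IsSolvable Γ] {x y : Γ}
    (hgen : Subgroup.closure {x, y} = ⊤)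
    (ρ : Γ →* Module.End (ZMod p) V) (hx : (ρ x - 1) ^ 2 = 0) (hy : (ρ y - 1) ^ 2 = 0) :
    H24.Quad.PG p ρ := by
  have hp : p.Prime := Fact.out
  have hN0 : orderOf (x * y) ≠ 0 := (orderOf_pos (x * y)).ne'
  obtain ⟨e, k, hk, hN⟩ := Nat.exists_eq_pow_mul_and_not_dvd hN0 p hp.ne_one
  have hk0 : k ≠ 0 := by
    rintro rfl
    exact hk (dvd_zero p)
  have hcop : Nat.Coprime p k := (Nat.Prime.coprime_iff_not_dvd hp).mpr hk
  have hn0 : Nat.totient k ≠ 0 := (Nat.totient_pos.mpr (Nat.pos_of_ne_zero hk0)).ne'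
  let K := GaloisField p (Nat.totient k)
  have hfinK : Finite K := inferInstance
  let _instK : Fintype K := Fintype.ofFinite K
  have hcard : Fintype.card K = p ^ Nat.totient k := by
    rw [← Nat.card_eq_fintype_card]; exact GaloisField.card p _ hn0
  have hkdvd : k ∣ Fintype.card K - 1 := by
    rw [hcard]
    exact (Nat.modEq_iff_dvd' (Nat.one_le_pow _ _ hp.pos)).mp (Nat.ModEq.pow_totient hcop).symm
  let B : Module.End (ZMod p) V →* Module.End K (K ⊗[ZMod p] V) :=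
    (Module.End.baseChangeHom (ZMod p) K V : Module.End (ZMod p) V →* Module.End K (K ⊗[ZMod p] V))
  have hB : ∀ f : Module.End (ZMod p) V, B f = Module.End.baseChangeHom (ZMod p) K V f :=
    fun f => rfl
  have hBsq : ∀ f : Module.End (ZMod p) V, (f - 1) ^ 2 = 0 → (B f - 1) ^ 2 = 0 := by
    intro f hf
    rw [hB, ← map_one (Module.End.baseChangeHom (ZMod p) K V),
      ← map_sub (Module.End.baseChangeHom (ZMod p) K V),
      ← map_pow (Module.End.baseChangeHom (ZMod p) K V), hf, map_zero]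
  have hBinj : ∀ f : Module.End (ZMod p) V, B f = 1 → f = 1 := by
    intro f hf
    ext v
    have h1 := congrArg (fun t => t ((1 : K) ⊗ₜ[ZMod p] v)) hf
    have h2 : (1 : K) ⊗ₜ[ZMod p] f v = (1 : K) ⊗ₜ[ZMod p] v := by
      have h3 : (LinearMap.baseChange K f) ((1 : K) ⊗ₜ[ZMod p] v) = (1 : K) ⊗ₜ[ZMod p] v := h1
      rw [LinearMap.baseChange_tmul] at h3
      exact h3
    exact Module.FaithfullyFlat.tensorProduct_mk_injective (A := ZMod p) (B := K) V h2
  let ρK : Γ →* Module.End K (K ⊗[ZMod p] V) := B.comp ρ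
  have hord : ∃ e : ℕ, ρK (x * y) ^ (p ^ e * (Fintype.card K - 1)) = 1 := by
    refine ⟨e, ?_⟩
    rw [← map_pow]
    have : (x * y) ^ (p ^ e * (Fintype.card K - 1)) = 1 := by
      apply orderOf_dvd_iff_pow_eq_one.mp
      rw [hN]; exact Nat.mul_dvd_mul_left _ hkdvd
    rw [this, map_one]
  have hPG : H24.Quad.PG p ρK := by
    rcases H24.Quad.main_aux (K := K) (p := p) hgen (Module.finrank K (K ⊗[ZMod p] V))
        (K ⊗[ZMod p] V) rfl
        ρK (hBsq _ hx) (hBsq _ hy) hord with h | ⟨φ, h1, h2, h3, h4, hφ⟩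
    · exact h
    · exact absurd (sl2_pg_solv hp2 hp3 hgen φ h1 h2 h3 h4) hφ
  intro g
  obtain ⟨j, hj⟩ := hPG g
  refine ⟨j, hBinj _ ?_⟩
  rw [map_pow]
  exact hj

/-- Solvable version (`p ≥ 5`) of helper24's `quad_normal`. -/
theorem quad_normal_solv {p : ℕ} [Fact p.Prime] (hp2 : p ≠ 2) (hp3 : p ≠ 3) {V : Type v}
    [AddCommGroup V] [Module (ZMod p) V] [Finite V]
    {Γ : Type w} [Group Γ] [Finite Γ] [Group.IsSolvable Γ] (ρ : Γ →* Module.End (ZMod p) V)
    (a : Γ) (ha : (ρ a - 1) ^ 2 = 0) :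
    ∃ N : Subgroup Γ, N.Normal ∧ a ∈ N ∧ ∀ g ∈ N, ∃ k : ℕ, ρ g ^ p ^ k = 1 := by
  have hkn : ρ.ker.Normal := ρ.normal_ker
  have hmk : ∀ (g : Γ) (n : ℕ), (QuotientGroup.mk' ρ.ker g) ^ n = 1 ↔ ρ g ^ n = 1 := by
    intro g n
    rw [← map_pow, QuotientGroup.mk'_apply, QuotientGroup.eq_one_iff, MonoidHom.mem_ker, map_pow]
  have hX : IsPGroup p (Subgroup.zpowers (QuotientGroup.mk' ρ.ker a)) :=
    H24.Quad.isPGroup_zpowers_of_pow_eq_one
      ((hmk a p).mpr (H24.Quad.pow_char_of_sq_zero (ZMod p) p ha))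
  have hBS : ∀ gb : Γ ⧸ ρ.ker, IsPGroup p ↥(Subgroup.zpowers (QuotientGroup.mk' ρ.ker a) ⊔
      (Subgroup.zpowers (QuotientGroup.mk' ρ.ker a)).map (MulAut.conj gb).toMonoidHom) := by
    intro gb
    obtain ⟨g, rfl⟩ := QuotientGroup.mk'_surjective ρ.ker gb
    have haH : a ∈ Subgroup.closure ({a, g * a * g⁻¹} : Set Γ) := Subgroup.subset_closure (by simp)
    have hbH : g * a * g⁻¹ ∈ Subgroup.closure ({a, g * a * g⁻¹} : Set Γ) :=
      Subgroup.subset_closure (by simp)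
    have hle : Subgroup.zpowers (QuotientGroup.mk' ρ.ker a) ⊔
        (Subgroup.zpowers (QuotientGroup.mk' ρ.ker a)).map
          (MulAut.conj (QuotientGroup.mk' ρ.ker g)).toMonoidHom
        ≤ (Subgroup.closure ({a, g * a * g⁻¹} : Set Γ)).map (QuotientGroup.mk' ρ.ker) := by
      refine sup_le ?_ ?_
      · rw [Subgroup.zpowers_le]; exact ⟨a, haH, rfl⟩
      · rw [MonoidHom.map_zpowers, Subgroup.zpowers_le]
        refine ⟨g * a * g⁻¹, hbH, ?_⟩
        simp
    have hgen0 : Subgroup.closure {(⟨a, haH⟩ : Subgroup.closure ({a, g * a * g⁻¹} : Set Γ)),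
        ⟨g * a * g⁻¹, hbH⟩} = ⊤ := by
      have := Subgroup.closure_closure_coe_preimage (k := ({a, g * a * g⁻¹} : Set Γ))
      convert this using 2
      ext z
      simp [Subtype.ext_iff]
    have hpg := quad_pg_solv hp2 hp3 hgen0 (ρ.comp (Subgroup.subtype _)) ha
      (H24.Quad.conj_sq_zero ρ ha g)
    intro z
    obtain ⟨h, hh, hz⟩ := hle z.2
    obtain ⟨k, hk⟩ := hpg ⟨h, hh⟩
    refine ⟨k, Subtype.ext ?_⟩
    rw [Subgroup.coe_pow, Subgroup.coe_one, ← hz]
    exact (hmk h _).mpr hk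
  obtain ⟨Nb, hN, hNp, hXN⟩ := Cfsg.Agent.H5.baer_suzuki _ hX hBS
  refine ⟨Nb.comap (QuotientGroup.mk' ρ.ker), hN.comap _,
    hXN (Subgroup.mem_zpowers _), ?_⟩
  intro g hg
  obtain ⟨k, hk⟩ := hNp ⟨QuotientGroup.mk' ρ.ker g, hg⟩
  exact ⟨k, (hmk g _).mp (congrArg Subtype.val hk)⟩

/-- Group form of `quad_normal_solv`. -/
theorem quad_normal_group_solv {G : Type u} [Group G] {p : ℕ} [Fact p.Prime] (hp2 : p ≠ 2)
    (hp3 : p ≠ 3) (V : Subgroup G) (hV : Cfsg.IsElementaryAbelian p V)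
    [Finite V] {Γ : Type w} [Group Γ] [Finite Γ] [Group.IsSolvable Γ] (ι : Γ →* G)
    (hι : ∀ γ, ι γ ∈ Subgroup.normalizer (V : Set G)) (a : Γ)
    (hq : ⁅⁅V, Subgroup.zpowers (ι a)⁆, Subgroup.zpowers (ι a)⁆ = ⊥) :
    ∃ N : Subgroup Γ, N.Normal ∧ a ∈ N ∧
      ∀ g ∈ N, ∃ k : ℕ, ι g ^ p ^ k ∈ Subgroup.centralizer (V : Set G) := by
  obtain ⟨M, iM, iMod, iFin, e, ρ, he, hρ⟩ := H24.Quad.exists_conj_rep V hV ι hι
  obtain ⟨N, hN, haN, hNp⟩ := quad_normal_solv hp2 hp3 ρ a (H24.Quad.rep_sq_zero he hρ a hq)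
  refine ⟨N, hN, haN, fun g hg => ?_⟩
  obtain ⟨k, hk⟩ := hNp g hg
  exact ⟨k, H24.Quad.rep_pow_mem_centralizer hρ g _ hk⟩

/-- In a finite solvable group, `p ≥ 5`, the conjugation action on a normal elementary abelian
`p`-subgroup is `p`-stable. -/
theorem isPStableOn_of_solvable {G : Type u} [Group G] [Finite G] {p : ℕ} [Fact p.Prime]
    (hp2 : p ≠ 2) (hp3 : p ≠ 3) [Group.IsSolvable G] (V : Subgroup G) [V.Normal]
    (hV : IsElementaryAbelian p V) : IsPStableOn p V := by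
  intro a hq
  have hι : ∀ γ : G, (MonoidHom.id G) γ ∈ Subgroup.normalizer (V : Set G) := by
    intro γ
    rw [Subgroup.normalizer_eq_top]; trivial
  obtain ⟨N, hN, haN, hNp⟩ := quad_normal_group_solv hp2 hp3 V hV (MonoidHom.id G) hι a hq
  have hpg : IsPGroup p (N.map (QuotientGroup.mk' (Subgroup.centralizer (V : Set G)))) := by
    rintro ⟨z, g, hg, rfl⟩
    obtain ⟨k, hk⟩ := hNp g hg
    refine ⟨k, Subtype.ext ?_⟩
    rw [Subgroup.coe_pow, Subgroup.coe_one, ← map_pow]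
    exact (QuotientGroup.eq_one_iff _).mpr hk
  have hle : N.map (QuotientGroup.mk' (Subgroup.centralizer (V : Set G))) ≤
      pCore p (G ⧸ Subgroup.centralizer (V : Set G)) :=
    le_sSup ⟨hN.map _ (QuotientGroup.mk'_surjective _), hpg⟩
  exact hle ⟨a, haN, rfl⟩

/-- `p`-stability on normal elementary abelian `p`-subgroups for solvable groups, `p` odd, with
abelian Sylow 2-subgroups when `p = 3`. -/
theorem isPStableOn_of_solvable' {G : Type u} [Group G] [Finite G] {p : ℕ} [Fact p.Prime]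
    (hp2 : p ≠ 2) [Group.IsSolvable G] (h3 : p = 3 → ∀ T : Sylow 2 G, IsMulCommutative T)
    (V : Subgroup G) [V.Normal]
    (hV : IsElementaryAbelian p V) : IsPStableOn p V := by
  by_cases hp3 : p = 3
  · obtain ⟨T⟩ : Nonempty (Sylow 2 G) := inferInstance
    exact H24.Quad.isPStableOn_of_ab2 hp2 (H24.Ab2.of_sylow T (h3 hp3 T)) V hV
  · exact isPStableOn_of_solvable hp2 hp3 V hV

end Cfsg.Agent.H58
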