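import Mathlib
import Cfsg.Prelude
import Cfsg.Agent.H58.KUDefs

set_option autoImplicit false

/-!
# Step (Z): the coprime form of the counting lemma and of Z-ORD (helper58)
-/

namespace Cfsg.Agent.H58.KU

open Cfsg Subgroup Cfsg.Agent.H76.NCKill

universe u

/-- FC-COP: the counting lemma inside a finite group `G`, coprime case: `V` a commutative subgroup
normalized by `b` (of prime order `r`, fixed-point-free on `V`) and by `e`, where `e` normalizes
`⟨b⟩` and `⟨e⟩` acts faithfully on `⟨b⟩`, and `|V|`, `r`, `orderOf e` are pairwise coprime.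
Then `|V| = |C_V(e)| ^ (orderOf e)`. -/
def StSubCop (G : Type u) [Group G] [Finite G] : Prop :=
  ∀ (V : Subgroup G) (b e : G) (r : ℕ), r.Prime →
    (∀ x ∈ V, ∀ y ∈ V, x * y = y * x) →
    b ∈ normalizer (V : Set G) → e ∈ normalizer (V : Set G) →
    orderOf b = r → e ∈ normalizer ((zpowers b : Subgroup G) : Set G) →
    (∀ i : ℕ, e ^ i * b = b * e ^ i → e ^ i = 1) →
    (∀ v ∈ V, b * v = v * b → v = 1) →
    (Nat.card V).Coprime r → (Nat.card V).Coprime (orderOf e) → r.Coprime (orderOf e) →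
    Nat.card V = Nat.card ↥(V ⊓ centralizer ({e} : Set G)) ^ orderOf e

/-- (ORD), coprime form: `|E₁| = p`, by the coprime counting lemma on `V = Z(M_σ)`. -/
def StZOrdC (G : Type u) [Group G] [Finite G] : Prop :=
  IsMinSimpleOddOrder G → StSubCop G →
    ∀ (M E A P : Subgroup G) (r p : ℕ) [Fact r.Prime],
    NC0 M E A P r p → ∀ E1 : Subgroup G, IsPiHallOf (tau1 M) E1 E → IsCyclic E1 → P ≤ E1 →
      sigmaCore M ⊓ centralizer (P : Set G) ≤ centralizer (E1 : Set G) →
      ∀ b ∈ A, orderOf b = r → zpowers b ≠ A0 M A →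
        (∀ e ∈ E, (∀ g ∈ P, e * g = g * e) →
          e ∈ normalizer ((zpowers b : Subgroup G) : Set G)) →
        (∀ e ∈ E1, e * b = b * e → e = 1) →
        Nat.card E1 = p

end Cfsg.Agent.H58.KU
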