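import Mathlib
import Cfsg.Agent.H58.KUDefs2
import Cfsg.Agent.H58.FrobWielandt

set_option autoImplicit false

/-!
# FC-COP: the coprime counting lemma `|V| = |C_V(e)| ^ o(e)` (helper58)

From Wielandt's fixed point formula for Frobenius-type coprime actions
(`Cfsg.Agent.H58.FrobWielandt.wielandt_formula`) with `K = ⟨b⟩`, `R = ⟨e⟩`, `H = V`.
-/

namespace Cfsg.Agent.H58.KU

open Cfsg Subgroup Cfsg.Agent.H58.FrobWielandt

universe u

variable {G : Type u} [Group G] [Finite G]

theorem subCop : StSubCop G := by
  intro V b e r hr hVc hbV heV hbo heb hfaith hfix hVr hVe hre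
  have hKcard : Nat.card (zpowers b) = r := by rw [Nat.card_zpowers, hbo]
  have hRcard : Nat.card (zpowers e) = orderOf e := Nat.card_zpowers e
  have hpow : ∀ x ∈ zpowers e, ∃ i : ℕ, x = e ^ i := by
    intro x hx
    rw [← mem_powers_iff_mem_zpowers, Submonoid.mem_powers_iff] at hx
    obtain ⟨i, hi⟩ := hx
    exact ⟨i, hi.symm⟩
  have hfrob : ∀ x ∈ zpowers e, x ≠ 1 → zpowers b ⊓ centralizer {x} = ⊥ := by
    intro x hx hx1
    obtain ⟨i, rfl⟩ := hpow x hx
    rw [eq_bot_iff]
    intro c hc
    obtain ⟨hcb, hcc⟩ := Subgroup.mem_inf.mp hc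
    rw [Subgroup.mem_bot]
    by_contra hc1
    have hle : zpowers c ≤ zpowers b := zpowers_le.mpr hcb
    have hcard : Nat.card (zpowers c) = r := by
      have hdvd : Nat.card (zpowers c) ∣ r := hKcard ▸ Subgroup.card_dvd_of_le hle
      rcases (Nat.dvd_prime hr).mp hdvd with h | h
      · exfalso
        rw [Nat.card_zpowers, orderOf_eq_one_iff] at h
        exact hc1 h
      · exact h
    have heq : zpowers c = zpowers b :=
      Subgroup.eq_of_le_of_card_ge hle (by rw [hcard, hKcard])
    have hb : b ∈ centralizer ({e ^ i} : Set G) := by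
      have : zpowers c ≤ centralizer ({e ^ i} : Set G) := zpowers_le.mpr hcc
      exact this (heq ▸ mem_zpowers b)
    rw [Subgroup.mem_centralizer_iff] at hb
    have := hb (e ^ i) (Set.mem_singleton _)
    exact hx1 (hfaith i this)
  have hdata : FrobData (zpowers b) (zpowers e) V := by
    refine ⟨zpowers_le.mpr heb, ?_, ?_, hfrob, zpowers_le.mpr hbV, zpowers_le.mpr heV, ?_, ?_, ?_⟩
    · apply Group.isSolvable_of_comm
      intro x y
      obtain ⟨m, hm⟩ := Subgroup.mem_zpowers_iff.mp x.2
      obtain ⟨n, hn⟩ := Subgroup.mem_zpowers_iff.mp y.2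
      apply Subtype.ext
      show (x : G) * y = y * x
      rw [← hm, ← hn, ← zpow_add, ← zpow_add, add_comm]
    · rw [hKcard, hRcard]; exact hre
    · exact Group.isSolvable_of_comm (fun x y => Subtype.ext (hVc x x.2 y y.2))
    · rw [hKcard]; exact hVr
    · rw [hRcard]; exact hVe
  have hf := wielandt_formula (Nat.card V) G (zpowers b) (zpowers e) V rfl hdata
  unfold Formula at hf
  have h1 : V ⊓ centralizer ((zpowers b : Subgroup G) : Set G) = ⊥ := by
    rw [eq_bot_iff]
    intro v hv
    obtain ⟨hvV, hvc⟩ := Subgroup.mem_inf.mp hv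
    rw [Subgroup.mem_centralizer_iff] at hvc
    rw [Subgroup.mem_bot]
    exact hfix v hvV (hvc b (mem_zpowers b))
  have h2 : V ⊓ centralizer (((zpowers b ⊔ zpowers e : Subgroup G)) : Set G) = ⊥ := by
    rw [eq_bot_iff, ← h1]
    exact inf_le_inf_left V (Subgroup.centralizer_le (by
      intro x hx
      exact (le_sup_left : zpowers b ≤ zpowers b ⊔ zpowers e) hx))
  have h3 : V ⊓ centralizer ((zpowers e : Subgroup G) : Set G) =
      V ⊓ centralizer ({e} : Set G) := by
    congr 1
    apply le_antisymm
    · exact Subgroup.centralizer_le (by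
        intro x hx
        rw [Set.mem_singleton_iff] at hx
        rw [hx]
        exact mem_zpowers e)
    · intro x hx
      rw [Subgroup.mem_centralizer_iff]
      intro h hh
      have he : e ∈ centralizer ({x} : Set G) := by
        rw [Subgroup.mem_centralizer_iff] at hx ⊢
        intro y hy
        rw [Set.mem_singleton_iff] at hy
        rw [hy]
        exact (hx e (Set.mem_singleton _)).symm
      have : zpowers e ≤ centralizer ({x} : Set G) := zpowers_le.mpr he
      have hh' := this hh
      rw [Subgroup.mem_centralizer_iff] at hh'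
      exact (hh' x (Set.mem_singleton _)).symm
  rw [h1, h2, h3, hRcard] at hf
  simp only [Subgroup.card_bot, one_pow, one_mul, mul_one] at hf
  exact hf

example : StSubCop G := subCop

end Cfsg.Agent.H58.KU
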