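import Mathlib
import Cfsg.Agent.Helper55.UqBase
import Cfsg.Agent.Helper55.StrongFusion
import Cfsg.Agent.H63.SnIfV
import Cfsg.Agent.H59.SoConj
import Cfsg.Agent.H42.SqAsm
import Cfsg.Agent.H32.SqV
import Cfsg.Agent.H58.Q46.Final
import Cfsg.Agent.S2950

/-!
# The `T < S` half of S2951 (helper60's proof, board post 10194), from S2946 + S2950

`Z₀ = Ω₁Z(J(T)) = Z₁ × ⟨w⟩`, `Z₁ = C_{Z₀}(⟨K, J(T)⟩)`, `L` the unique maximal 2-local over
`⟨K, J(T)⟩`.  (U) `C_G(y) ≤ L` for `1 ≠ y ∈ Z₁`; (Y) `y, y^g ∈ Z₁ ∖ 1 ⟹ g ∈ L`;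
`x ∈ N_S(T) ∖ T` is not in `L`, so `Z₁ ∩ Z₁^x = 1` and `|Z₁| ≤ 2`; `Z ∩ Z₁ = 1`;
`Z₁ = 1` gives clause 1, otherwise clause 3.
-/

set_option autoImplicit false
open Cfsg
open scoped commutatorElement

namespace Cfsg.Agent.H58.Jz

open Cfsg.Agent.Helper55 Cfsg.Agent.Helper55.ThJ Cfsg.Agent.Helper55.J48

universe u

/-- The statement S2951 (verbatim) with the extra hypothesis `T ≠ S`. -/
def StLtHalf : Prop := ∀ {G : Type u} [Group G] [Finite G], Cfsg.IsCharacteristicTwoType G →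
    (∀ N : Subgroup G, Cfsg.IsTwoLocal N → Group.IsSolvable ↥N) →
    (∀ S : Sylow 2 G, Subgroup.centralizer (Cfsg.omegaCenterOf (S : Subgroup G) : Set G) ≤
      Subgroup.normalizer ((S : Subgroup G) : Set G)) → Cfsg.pCore 2 G = ⊥ →
    ∀ (S : Sylow 2 G) (M : Subgroup G), Cfsg.IsTwoLocal M →
    Subgroup.normalizer (Cfsg.thompsonSubgroupOf 2 (S : Subgroup G) : Set G) ≤ M →
    ∀ (T : Subgroup G), T ∈ Cfsg.maxStraddlingTwoSubgroups M →
    T ≤ (S : Subgroup G) → ∀ (K : Subgroup G), K ∈ Cfsg.jComponentsOutside M T →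
    ∀ (L : Subgroup G), Cfsg.IsMaximalTwoLocal L → K ⊔ Cfsg.thompsonSubgroupOf 2 T ≤ L →
    ∀ (Z Z₀ : Subgroup G), Z = Cfsg.omegaCenterOf (S : Subgroup G) →
    Z₀ = Cfsg.omegaCenterOf (Cfsg.thompsonSubgroupOf 2 T) → T ≠ (S : Subgroup G) →
    Z₀ ⊓ Cfsg.wOf K ≠ ⊥ ∧
      ((Z = Z₀ ∧ Nat.card ↥Z₀ = 2) ∨ (Z = Z₀ ∧ Nat.card ↥Z₀ = 4 ∧ T = (S : Subgroup G)) ∨
        (Cfsg.omegaCenterOf T = Z₀ ∧ Nat.card ↥Z₀ = 4 ∧
          (L ⊓ Subgroup.centralizer (Z₀ : Set G)).relIndex
            (Subgroup.normalizer (Z₀ : Set G)) = 2))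

section lemmas

variable {G : Type u} [Group G]

theorem isTwoLocal_conj {N : Subgroup G} (h : IsTwoLocal N) (g : G) :
    IsTwoLocal (N.map (MulAut.conj g).toMonoidHom) := by
  obtain ⟨D, hD, hD1, rfl⟩ := h
  refine ⟨D.map (MulAut.conj g).toMonoidHom, hD.map _, ?_, ?_⟩
  · intro hb
    apply hD1
    exact (Subgroup.map_eq_bot_iff_of_injective _ (MulAut.conj g).injective).mp hb
  · exact Subgroup.map_equiv_normalizer_eq D (MulAut.conj g)

theorem isMaximalTwoLocal_conj {L : Subgroup G} (h : IsMaximalTwoLocal L) (g : G) :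
    IsMaximalTwoLocal (L.map (MulAut.conj g).toMonoidHom) := by
  refine ⟨isTwoLocal_conj h.1 g, ?_⟩
  intro N hN hLN
  have h1 : N.map (MulAut.conj g⁻¹).toMonoidHom = L := by
    apply h.2 _ (isTwoLocal_conj hN g⁻¹)
    have h2 := Subgroup.map_mono (f := (MulAut.conj g⁻¹).toMonoidHom) hLN
    rwa [Cfsg.Agent.H59.So.map_conj_conj_inv] at h2
  rw [← h1, Cfsg.Agent.H59.So.map_conj_inv_conj]

theorem mem_of_map_conj_eq [Finite G] (hL : IsCharacteristicTwoType G) {L : Subgroup G}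
    (h : IsMaximalTwoLocal L) {g : G} (hg : L.map (MulAut.conj g).toMonoidHom = L) : g ∈ L := by
  have hQ2 : IsPGroup 2 ↥(pCoreOf 2 L) := Cfsg.Agent.Helper55.Uq.pCoreOf_isPGroup L
  have hQ1 : pCoreOf 2 L ≠ ⊥ := by
    intro hb
    have hc := centralizer_pCoreOf_le hL h.1
    rw [hb] at hc
    obtain ⟨D, -, hD1, -⟩ := h.1
    apply hD1
    rw [eq_bot_iff]
    intro d _
    apply hc
    rw [Subgroup.mem_centralizer_iff]
    intro q hq
    rw [SetLike.mem_coe, Subgroup.mem_bot] at hq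
    rw [hq, one_mul, mul_one]
  have hloc : IsTwoLocal (Subgroup.normalizer (pCoreOf 2 L : Set G)) := ⟨_, hQ2, hQ1, rfl⟩
  have hNL : Subgroup.normalizer (pCoreOf 2 L : Set G) = L :=
    h.2 _ hloc (le_normalizer_pCoreOf L)
  have hmap : (pCoreOf 2 L).map (MulAut.conj g).toMonoidHom = pCoreOf 2 L := by
    rw [← Cfsg.Agent.H51.pCoreOf_map 2 L (MulAut.conj g), hg]
  rw [← hNL, Subgroup.mem_normalizer_iff]
  intro q
  constructor
  · intro hq
    rw [← hmap]
    exact ⟨q, hq, by simp [MulAut.conj_apply]⟩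
  · intro hq
    rw [← hmap] at hq
    obtain ⟨q', hq', e⟩ := hq
    have e' : g * q' * g⁻¹ = g * q * g⁻¹ := by simpa [MulAut.conj_apply] using e
    have e'' : q' = q := by
      have := congrArg (fun t => g⁻¹ * t * g) e'
      simpa [mul_assoc] using this
    rwa [← e'']

theorem cent_le_norm_zpowers (y : G) :
    Subgroup.centralizer ({y} : Set G) ≤ Subgroup.normalizer (Subgroup.zpowers y : Set G) := by
  intro g hg
  have hgy : y * g = g * y := (Subgroup.mem_centralizer_iff.mp hg) y (Set.mem_singleton y)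
  apply Subgroup.centralizer_le_normalizer
  rw [Subgroup.mem_centralizer_iff]
  intro h hh
  obtain ⟨k, rfl⟩ := Subgroup.mem_zpowers_iff.mp hh
  have hc : Commute y g := hgy
  exact (hc.zpow_left k).eq

theorem sylow_max [Finite G] {T L P : Subgroup G} (h : IsSylowTwoIn T L) (hP : IsPGroup 2 ↥P)
    (hTP : T ≤ P) (hPL : P ≤ L) : P ≤ T := by
  have : Fact (Nat.Prime 2) := ⟨Nat.prime_two⟩
  have h1 := Subgroup.relIndex_mul_relIndex T P L hTP hPL
  have hodd : Odd (T.relIndex P) := by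
    have h2 : Odd (T.relIndex P * P.relIndex L) := by rw [h1]; exact h.2.2
    exact (Nat.odd_mul.mp h2).1
  obtain ⟨n, hn⟩ := hP.index (T.subgroupOf P)
  have h3 : T.relIndex P = 2 ^ n := hn
  rw [← Subgroup.relIndex_eq_one]
  rw [h3] at hodd ⊢
  rcases Nat.eq_zero_or_pos n with rfl | hpos
  · rfl
  · exfalso
    have : Even (2 ^ n) := (Nat.even_pow.mpr ⟨even_two, hpos.ne'⟩)
    exact (Nat.not_even_iff_odd.mpr hodd) this

theorem le_sylow_of_le_normalizer [Finite G] (S : Sylow 2 G) {P : Subgroup G}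
    (hP : IsPGroup 2 ↥P) (hPN : P ≤ Subgroup.normalizer ((S : Subgroup G) : Set G)) :
    P ≤ (S : Subgroup G) := by
  have : Fact (Nat.Prime 2) := ⟨Nat.prime_two⟩
  have h1 : IsPGroup 2 ↥(P ⊔ (S : Subgroup G)) :=
    IsPGroup.to_sup_of_normal_right' hP S.isPGroup' hPN
  have h2 := S.is_maximal' h1 le_sup_right
  rw [← h2]
  exact le_sup_left

/-- an involution in the centre of `T` lies in `J(T)`. -/
theorem central_inv_mem_J [Finite G] (T : Subgroup G) {z : G} (hzT : z ∈ T)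
    (hzc : z ∈ Subgroup.centralizer (T : Set G)) (hz2 : z ^ 2 = 1) :
    z ∈ thompsonSubgroupOf 2 T := by
  obtain ⟨A, hA⟩ := gens_nonempty T
  obtain ⟨hAT, hAe, hAc⟩ := hA
  have hZe : IsElementaryAbelian 2 (Subgroup.zpowers z) := by
    refine ⟨⟨⟨fun a b => ?_⟩⟩, ?_⟩
    · obtain ⟨i, hi⟩ := Subgroup.mem_zpowers_iff.mp a.2
      obtain ⟨j, hj⟩ := Subgroup.mem_zpowers_iff.mp b.2
      apply Subtype.ext
      show (a : G) * (b : G) = (b : G) * (a : G)
      rw [← hi, ← hj, ← zpow_add, ← zpow_add, add_comm]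
    · intro a ha
      obtain ⟨i, rfl⟩ := Subgroup.mem_zpowers_iff.mp ha
      rw [← zpow_natCast, ← zpow_mul, mul_comm, zpow_mul, zpow_natCast, hz2, one_zpow]
  have hc : Subgroup.zpowers z ≤ Subgroup.centralizer (A : Set G) := by
    rw [Subgroup.zpowers_le]
    exact Subgroup.centralizer_le (SetLike.coe_subset_coe.mpr hAT) hzc
  have hBe := Cfsg.Agent.H42.Sq.isElementaryAbelian_sup hAe hZe hc
  have hBT : A ⊔ Subgroup.zpowers z ≤ T := sup_le hAT (Subgroup.zpowers_le.mpr hzT)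
  have hcard := card_le_a T hBT hBe
  rw [← hAc] at hcard
  have hEq : A = A ⊔ Subgroup.zpowers z := Subgroup.eq_of_le_of_card_ge le_sup_left hcard
  have hzA : z ∈ A := by
    rw [hEq]
    exact Subgroup.mem_sup_right (Subgroup.mem_zpowers z)
  exact gen_le_J ⟨hAT, hAe, hAc⟩ hzA

theorem exists_central_inv [Finite G] (T : Subgroup G) (hT : IsPGroup 2 ↥T) (hT1 : T ≠ ⊥) :
    ∃ t ∈ T, t ≠ 1 ∧ t ^ 2 = 1 ∧ t ∈ Subgroup.centralizer (T : Set G) := by
  have : Fact (Nat.Prime 2) := ⟨Nat.prime_two⟩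
  have hnt : Nontrivial ↥T := (Subgroup.nontrivial_iff_ne_bot T).mpr hT1
  have hcn : Nontrivial ↥(Subgroup.center ↥T) := hT.center_nontrivial
  have hcp : IsPGroup 2 ↥(Subgroup.center ↥T) := hT.to_subgroup _
  have h2 : 2 ∣ Nat.card ↥(Subgroup.center ↥T) := by
    obtain ⟨k, hk⟩ := hcp.exists_card_eq
    rcases Nat.eq_zero_or_pos k with rfl | hk0
    · rw [pow_zero] at hk
      have := (Subgroup.nontrivial_iff_ne_bot _).mp hcn
      exact absurd (Subgroup.card_eq_one.mp hk) this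
    · rw [hk]; exact dvd_pow_self 2 hk0.ne'
  obtain ⟨z, hz⟩ := exists_prime_orderOf_dvd_card' 2 h2
  have hzo : orderOf ((z : ↥T) : G) = 2 := by
    rw [Subgroup.orderOf_coe, Subgroup.orderOf_coe]; exact hz
  refine ⟨((z : ↥T) : G), (z : ↥T).2, ?_, ?_, ?_⟩
  · intro h1
    rw [h1, orderOf_one] at hzo
    norm_num at hzo
  · rw [← hzo]; exact pow_orderOf_eq_one _
  · rw [Subgroup.mem_centralizer_iff]
    intro x hx
    have hzc := Subgroup.mem_center_iff.mp z.2 ⟨x, hx⟩
    exact congrArg Subtype.val hzc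

theorem comm_of_conj {g y : G} (h : g * y * g⁻¹ = y) : g * y = y * g := by
  calc g * y = g * y * g⁻¹ * g := by group
    _ = y * g := by rw [h]

theorem eq_of_conj_eq {g a b : G} (h : g * a * g⁻¹ = g * b * g⁻¹) : a = b := by
  have h2 := congrArg (fun t => g⁻¹ * t * g) h
  have e1 : g⁻¹ * (g * a * g⁻¹) * g = a := by group
  have e2 : g⁻¹ * (g * b * g⁻¹) * g = b := by group
  simp only [e1, e2] at h2
  exact h2

theorem eq_one_of_conj_eq_one {g a : G} (h : g * a * g⁻¹ = 1) : a = 1 := by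
  apply eq_of_conj_eq (g := g)
  rw [h]; group

/-- `C_G(K ∪ J(T))`, in the exact shape of the statement S2946. -/
def cKJ (K T : Subgroup G) : Subgroup G :=
  Subgroup.centralizer ((K ⊔ thompsonSubgroupOf 2 T) : Set G)

theorem cKJ_comm {K T : Subgroup G} {y : G} (hy : y ∈ cKJ K T) :
    ∀ h ∈ K ⊔ thompsonSubgroupOf 2 T, h * y = y * h := by
  have hK : K ≤ Subgroup.centralizer ({y} : Set G) := by
    intro k hk
    rw [Subgroup.mem_centralizer_iff]
    intro q hq
    rw [Set.mem_singleton_iff] at hq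
    rw [hq]
    exact ((Subgroup.mem_centralizer_iff.mp hy) k (Or.inl hk)).symm
  have hJ : thompsonSubgroupOf 2 T ≤ Subgroup.centralizer ({y} : Set G) := by
    intro k hk
    rw [Subgroup.mem_centralizer_iff]
    intro q hq
    rw [Set.mem_singleton_iff] at hq
    rw [hq]
    exact ((Subgroup.mem_centralizer_iff.mp hy) k (Or.inr hk)).symm
  intro h hh
  exact ((Subgroup.mem_centralizer_iff.mp (sup_le hK hJ hh)) y (Set.mem_singleton y)).symm

end lemmas

/-- The `T < S` half of S2951. -/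
theorem lt_half : StLtHalf.{u} := by
  intro G _ _ hL hN hZ hO S M hM hMJ T hT hTS K hK L hLmax hKL Z Z₀ hZdef hZ₀ hne
  have hF2 : Fact (Nat.Prime 2) := ⟨Nat.prime_two⟩
  have hT2 : IsPGroup 2 ↥T := hT.1.1
  have hT1 : T ≠ ⊥ := hT.1.2.1
  obtain ⟨L₀, hL₀max, hKL₀, huniq₀, -, hSyl₀⟩ :=
    Cfsg.Agent.S2950.result hL hN hZ hO S M hM hMJ T hT K hK
  have hLL₀ : L = L₀ := huniq₀ L hLmax hKL
  subst hLL₀
  obtain ⟨hcardW, hsplit⟩ := Cfsg.Agent.H58.Q46.s2946 hL hN hZ T hT2 hT1 K hK.1.1 Z₀ hZ₀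
  have hJT : thompsonSubgroupOf 2 T ≤ T := J_le T
  have hTL : T ≤ L := hSyl₀.1
  have hZ₀mem : ∀ y : G, y ∈ Z₀ ↔ (y ∈ thompsonSubgroupOf 2 T ∧
      y ∈ Subgroup.centralizer (thompsonSubgroupOf 2 T : Set G) ∧ y ^ 2 = 1) := by
    intro y
    rw [hZ₀]
    exact ⟨fun h => Cfsg.Agent.H63.Sn.mem_omegaCenterOf _ h,
      fun h => Cfsg.Agent.H63.Sn.omegaCenterOf_mem _ h.1 h.2.1 h.2.2⟩
  have hZmem : ∀ y : G, y ∈ Z ↔ (y ∈ (S : Subgroup G) ∧
      y ∈ Subgroup.centralizer ((S : Subgroup G) : Set G) ∧ y ^ 2 = 1) := by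
    intro y
    rw [hZdef]
    exact ⟨fun h => Cfsg.Agent.H63.Sn.mem_omegaCenterOf _ h,
      fun h => Cfsg.Agent.H63.Sn.omegaCenterOf_mem _ h.1 h.2.1 h.2.2⟩
  have hcomm : ∀ a ∈ Z₀, ∀ b ∈ Z₀, a * b = b * a := by
    intro a ha b hb
    exact (Subgroup.mem_centralizer_iff.mp ((hZ₀mem b).mp hb).2.1) a ((hZ₀mem a).mp ha).1
  have hsq : ∀ a ∈ Z₀, a * a = 1 := by
    intro a ha
    have h := ((hZ₀mem a).mp ha).2.2
    rwa [pow_two] at h
  have hinv : ∀ a ∈ Z₀, a⁻¹ = a := fun a ha => (eq_inv_of_mul_eq_one_left (hsq a ha)).symm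
  have hWne : Z₀ ⊓ wOf K ≠ ⊥ := by
    intro hb
    rw [hb] at hcardW
    simp at hcardW
  -- (U)
  have hU : ∀ y ∈ Z₀, y ∈ cKJ K T → y ≠ 1 → Subgroup.centralizer ({y} : Set G) ≤ L := by
    intro y hy hyc hy1
    have hyT : y ∈ T := hJT ((hZ₀mem y).mp hy).1
    have hloc : IsTwoLocal (Subgroup.normalizer (Subgroup.zpowers y : Set G)) :=
      ⟨Subgroup.zpowers y, hT2.to_le (Subgroup.zpowers_le.mpr hyT),
        fun h => hy1 (Subgroup.zpowers_eq_bot.mp h), rfl⟩
    obtain ⟨L', hL'max, hL'⟩ := Cfsg.Agent.Helper55.Uq.exists_maximalTwoLocal hloc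
    have hKJ : K ⊔ thompsonSubgroupOf 2 T ≤ L' := by
      intro g hg
      apply hL'
      apply cent_le_norm_zpowers y
      rw [Subgroup.mem_centralizer_iff]
      intro h hh
      rw [Set.mem_singleton_iff] at hh
      rw [hh]
      exact ((cKJ_comm hyc) g hg).symm
    have hEq := huniq₀ L' hL'max hKJ
    rw [← hEq]
    exact (cent_le_norm_zpowers y).trans hL'
  -- (Y)
  have hY : ∀ g y : G, y ∈ Z₀ → y ∈ cKJ K T → y ≠ 1 → g * y * g⁻¹ ∈ cKJ K T → g ∈ L := by
    intro g y hy hyc hy1 hgyc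
    have h1 := hU y hy hyc hy1
    have hKJ : K ⊔ thompsonSubgroupOf 2 T ≤ L.map (MulAut.conj g).toMonoidHom := by
      intro h hh
      refine ⟨g⁻¹ * h * g, h1 ?_, ?_⟩
      · rw [Subgroup.mem_centralizer_iff]
        intro q hq
        rw [Set.mem_singleton_iff] at hq
        rw [hq]
        have e := (cKJ_comm hgyc) h hh
        calc y * (g⁻¹ * h * g) = g⁻¹ * ((g * y * g⁻¹) * h) * g := by group
          _ = g⁻¹ * (h * (g * y * g⁻¹)) * g := by rw [e]
          _ = g⁻¹ * h * g * y := by group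
      · simp only [MulEquiv.toMonoidHom_eq_coe, MonoidHom.coe_coe, MulAut.conj_apply]
        group
    have h2 := huniq₀ _ (isMaximalTwoLocal_conj hLmax g) hKJ
    exact mem_of_map_conj_eq hL hLmax h2
  -- the element `x ∈ N_S(T) ∖ T`
  have hlt : T < (S : Subgroup G) := lt_of_le_of_ne hTS hne
  obtain ⟨x, hxS, hxN, hxT⟩ :=
    Cfsg.Agent.Helper55.exists_mem_normalizer_not_mem (p := 2) S.isPGroup' hlt
  have hxL : x ∉ L := by
    intro hxL
    have hP2 : IsPGroup 2 ↥(T ⊔ Subgroup.zpowers x) :=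
      S.isPGroup'.to_le (sup_le hTS (Subgroup.zpowers_le.mpr hxS))
    have hPL : T ⊔ Subgroup.zpowers x ≤ L := sup_le hTL (Subgroup.zpowers_le.mpr hxL)
    have h3 := sylow_max hSyl₀ hP2 le_sup_left hPL
    exact hxT (h3 (Subgroup.mem_sup_right (Subgroup.mem_zpowers x)))
  have hconj : ∀ g ∈ Subgroup.normalizer (thompsonSubgroupOf 2 T : Set G), ∀ y ∈ Z₀,
      g * y * g⁻¹ ∈ Z₀ := by
    intro g hg y hy
    rw [hZ₀] at hy ⊢
    refine Cfsg.Agent.H32.Sq.omegaCenterOf_conj _ ?_ ?_ hy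
    · intro j hj
      exact (Subgroup.mem_normalizer_iff.mp hg j).mp hj
    · intro j hj
      have h := (Subgroup.mem_normalizer_iff.mp (Subgroup.inv_mem _ hg) j).mp hj
      simpa using h
  have hxNJ : x ∈ Subgroup.normalizer (thompsonSubgroupOf 2 T : Set G) :=
    Cfsg.Agent.Helper55.ThJ.normalizer_le T hxN
  have hTNJ : ∀ t ∈ T, t ∈ Subgroup.normalizer (thompsonSubgroupOf 2 T : Set G) :=
    fun t ht => Cfsg.Agent.Helper55.ThJ.normalizer_le T (Subgroup.le_normalizer ht)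
  -- (F1)
  have hCT : Subgroup.centralizer (T : Set G) ≤ T := by
    intro c hc
    have hQT : pCoreOf 2 L ≤ T := pCoreOf_le_of_sylowIn hSyl₀
    have hcQ : c ∈ Subgroup.centralizer (pCoreOf 2 L : Set G) :=
      Subgroup.centralizer_le (SetLike.coe_subset_coe.mpr hQT) hc
    exact hQT (centralizer_pCoreOf_le hL hLmax.1 hcQ)
  have hZ₀of : ∀ y : G, y ∈ T → y ∈ Subgroup.centralizer (T : Set G) → y ^ 2 = 1 → y ∈ Z₀ := by
    intro y hyT hyc hy2
    rw [hZ₀mem]
    exact ⟨central_inv_mem_J T hyT hyc hy2,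
      Subgroup.centralizer_le (SetLike.coe_subset_coe.mpr hJT) hyc, hy2⟩
  have hZZ₀ : Z ≤ Z₀ := by
    intro z hz
    obtain ⟨hzS, hzc, hz2⟩ := (hZmem z).mp hz
    have hzcT : z ∈ Subgroup.centralizer (T : Set G) :=
      Subgroup.centralizer_le (SetLike.coe_subset_coe.mpr hTS) hzc
    exact hZ₀of z (hCT hzcT) hzcT hz2
  have hZC : ∀ z ∈ Z, z ∈ cKJ K T → z = 1 := by
    intro z hz hzc
    by_contra hz1
    have h1 := hU z (hZZ₀ hz) hzc hz1
    have hSL : (S : Subgroup G) ≤ L := by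
      intro s hs
      apply h1
      rw [Subgroup.mem_centralizer_iff]
      intro q hq
      rw [Set.mem_singleton_iff] at hq
      rw [hq]
      exact ((Subgroup.mem_centralizer_iff.mp ((hZmem z).mp hz).2.1) s hs).symm
    exact hne (le_antisymm hTS (sylow_max hSyl₀ S.isPGroup' hTS hSL))
  -- the involution `z` of `Z`
  have hS1 : (S : Subgroup G) ≠ ⊥ := by
    intro h
    apply hT1
    rw [eq_bot_iff, ← h]
    exact hTS
  obtain ⟨z, hzS, hzne, hz2, hzc⟩ := exists_central_inv (S : Subgroup G) S.isPGroup' hS1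
  have hzZ : z ∈ Z := (hZmem z).mpr ⟨hzS, hzc, hz2⟩
  have hzZ₀ : z ∈ Z₀ := hZZ₀ hzZ
  have hzC : z ∉ cKJ K T := fun h => hzne (hZC z hzZ h)
  have hSz : ∀ s ∈ (S : Subgroup G), s * z * s⁻¹ = z := by
    intro s hs
    have h := (Subgroup.mem_centralizer_iff.mp hzc) s hs
    rw [h, mul_inv_cancel_right]
  have hxz : x * z * x⁻¹ = z := hSz x hxS
  -- the involution `w` of `Z₀ ∩ W_K`
  obtain ⟨w, hwZ₀, hw1, hwuniq⟩ :
      ∃ w : G, w ∈ Z₀ ∧ w ≠ 1 ∧ ∀ y ∈ Z₀ ⊓ wOf K, y = 1 ∨ y = w := by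
    obtain ⟨w', hw'1, hw'uniq⟩ := (Nat.card_eq_two_iff' (1 : ↥(Z₀ ⊓ wOf K))).mp hcardW
    refine ⟨(w' : G), (Subgroup.mem_inf.mp w'.2).1, fun h => hw'1 (Subtype.ext h), ?_⟩
    intro y hy
    by_cases h : y = 1
    · exact Or.inl h
    · right
      have h5 := hw'uniq ⟨y, hy⟩ (fun hh => h (congrArg Subtype.val hh))
      exact congrArg Subtype.val h5
  -- `Z₀ = Z₁ ∪ w Z₁`
  have hsplit' : Z₀ ⊓ ((K ⊔ thompsonSubgroupOf 2 T) ⊓ cKJ K T) ⊔ Z₀ ⊓ wOf K = Z₀ := hsplit
  have key : ∀ y ∈ Z₀ ⊓ ((K ⊔ thompsonSubgroupOf 2 T) ⊓ cKJ K T) ⊔ Z₀ ⊓ wOf K,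
      y ∈ Z₀ ∧ (y ∈ cKJ K T ∨ w * y ∈ cKJ K T) := by
    intro y hy'
    rw [Subgroup.sup_eq_closure] at hy'
    induction hy' using Subgroup.closure_induction with
    | mem a ha =>
      rcases ha with ha | ha
      · exact ⟨ha.1, Or.inl ha.2.2⟩
      · rcases hwuniq a ha with h | h
        · rw [h]; exact ⟨one_mem _, Or.inl (one_mem _)⟩
        · rw [h]
          refine ⟨hwZ₀, Or.inr ?_⟩
          rw [hsq w hwZ₀]; exact one_mem _
    | one => exact ⟨one_mem _, Or.inl (one_mem _)⟩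
    | mul a b _ _ iha ihb =>
      obtain ⟨haZ, ha⟩ := iha
      obtain ⟨hbZ, hb⟩ := ihb
      refine ⟨Z₀.mul_mem haZ hbZ, ?_⟩
      rcases ha with ha | ha <;> rcases hb with hb | hb
      · exact Or.inl ((cKJ K T).mul_mem ha hb)
      · right
        have e : w * (a * b) = a * (w * b) := by
          rw [← mul_assoc, hcomm w hwZ₀ a haZ, mul_assoc]
        rw [e]; exact (cKJ K T).mul_mem ha hb
      · right
        rw [← mul_assoc]; exact (cKJ K T).mul_mem ha hb
      · left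
        have e : (w * a) * (w * b) = a * b := by
          rw [hcomm w hwZ₀ a haZ, mul_assoc, ← mul_assoc w w b, hsq w hwZ₀, one_mul]
        rw [← e]; exact (cKJ K T).mul_mem ha hb
    | inv a _ iha =>
      obtain ⟨haZ, ha⟩ := iha
      refine ⟨Z₀.inv_mem haZ, ?_⟩
      rw [hinv a haZ]
      exact ha
  have hdec : ∀ y ∈ Z₀, y ∈ cKJ K T ∨ w * y ∈ cKJ K T := by
    intro y hy
    have hy' : y ∈ Z₀ ⊓ ((K ⊔ thompsonSubgroupOf 2 T) ⊓ cKJ K T) ⊔ Z₀ ⊓ wOf K := by
      rw [hsplit']; exact hy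
    exact (key y hy').2
  have hxC : ∀ y ∈ Z₀, y ∈ cKJ K T → y ≠ 1 → x * y * x⁻¹ ∉ cKJ K T :=
    fun y hy hyc hy1 h => hxL (hY x y hy hyc hy1 h)
  by_cases hC1 : ∀ y ∈ Z₀, y ∈ cKJ K T → y = 1
  · -- clause 1
    have hbot : Z₀ ⊓ ((K ⊔ thompsonSubgroupOf 2 T) ⊓ cKJ K T) = ⊥ := by
      rw [eq_bot_iff]
      intro y hy
      rw [Subgroup.mem_bot]
      exact hC1 y hy.1 hy.2.2
    rw [hbot, bot_sup_eq] at hsplit'
    have hcard2 : Nat.card ↥Z₀ = 2 := by
      have h := hcardW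
      rw [hsplit'] at h
      exact h
    have hZ₀w : ∀ y ∈ Z₀, y = 1 ∨ y = w := by
      intro y hy
      apply hwuniq
      rw [hsplit']; exact hy
    have hzw : z = w := (hZ₀w z hzZ₀).resolve_left hzne
    have hZeq : Z = Z₀ := by
      apply le_antisymm hZZ₀
      intro y hy
      rcases hZ₀w y hy with h | h
      · rw [h]; exact one_mem _
      · rw [h, ← hzw]; exact hzZ
    exact ⟨hWne, Or.inl ⟨hZeq, hcard2⟩⟩
  · -- clause 3
    obtain ⟨z1, hz1Z₀, hz1C, hz1ne⟩ : ∃ z1 ∈ Z₀, z1 ∈ cKJ K T ∧ z1 ≠ 1 := by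
      by_contra hcon
      apply hC1
      intro y hy hyc
      by_contra hy1
      exact hcon ⟨y, hy, hyc, hy1⟩
    have hC1u : ∀ y ∈ Z₀, y ∈ cKJ K T → y = 1 ∨ y = z1 := by
      intro y hy hyc
      by_cases hy1 : y = 1
      · exact Or.inl hy1
      · right
        have hxy := hconj x hxNJ y hy
        have hxz1 := hconj x hxNJ z1 hz1Z₀
        have h1 := (hdec _ hxy).resolve_left (hxC y hy hyc hy1)
        have h2 := (hdec _ hxz1).resolve_left (hxC z1 hz1Z₀ hz1C hz1ne)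
        have h3 : x * (y * z1⁻¹) * x⁻¹ ∈ cKJ K T := by
          have h4 := (cKJ K T).mul_mem h1 ((cKJ K T).inv_mem h2)
          have e : w * (x * y * x⁻¹) * (w * (x * z1 * x⁻¹))⁻¹ = x * (y * z1⁻¹) * x⁻¹ := by
            rw [hcomm w hwZ₀ _ hxy, hcomm w hwZ₀ _ hxz1]
            group
          rwa [e] at h4
        have hyz : y * z1⁻¹ ∈ Z₀ := Z₀.mul_mem hy (Z₀.inv_mem hz1Z₀)
        have hyzC : y * z1⁻¹ ∈ cKJ K T := (cKJ K T).mul_mem hyc ((cKJ K T).inv_mem hz1C)
        by_contra hne'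
        exact hxC _ hyz hyzC (fun h => hne' (mul_inv_eq_one.mp h)) h3
    have hwcases : w = z ∨ w = z * z1 := by
      have hwz := (hdec z hzZ₀).resolve_left hzC
      rcases hC1u (w * z) (Z₀.mul_mem hwZ₀ hzZ₀) hwz with h | h
      · left
        rw [eq_inv_of_mul_eq_one_left h, hinv z hzZ₀]
      · right
        rw [eq_mul_inv_of_mul_eq h, hinv z hzZ₀, hcomm z1 hz1Z₀ z hzZ₀]
    have hZ₀4 : ∀ y ∈ Z₀, y = 1 ∨ y = z ∨ y = z1 ∨ y = z * z1 := by
      intro y hy
      rcases hdec y hy with hyc | hwy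
      · rcases hC1u y hy hyc with h | h
        · exact Or.inl h
        · exact Or.inr (Or.inr (Or.inl h))
      · rcases hC1u (w * y) (Z₀.mul_mem hwZ₀ hy) hwy with h | h
        · have hyw : y = w := by rw [eq_inv_of_mul_eq_one_right h, hinv w hwZ₀]
          rcases hwcases with h' | h'
          · exact Or.inr (Or.inl (hyw.trans h'))
          · exact Or.inr (Or.inr (Or.inr (hyw.trans h')))
        · have hyw : y = w * z1 := by rw [eq_inv_mul_of_mul_eq h, hinv w hwZ₀]
          rcases hwcases with h' | h'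
          · exact Or.inr (Or.inr (Or.inr (by rw [hyw, h'])))
          · refine Or.inr (Or.inl ?_)
            rw [hyw, h', mul_assoc, hsq z1 hz1Z₀, mul_one]
    have hzz1 : z ≠ z1 := fun h => hzC (h ▸ hz1C)
    have hzz1ne : z * z1 ≠ 1 := by
      intro h
      apply hzz1
      rw [eq_inv_of_mul_eq_one_left h, hinv z1 hz1Z₀]
    have hset : (Z₀ : Set G) = {1, z, z1, z * z1} := by
      ext y
      simp only [SetLike.mem_coe, Set.mem_insert_iff, Set.mem_singleton_iff]
      constructor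
      · exact hZ₀4 y
      · rintro (h | h | h | h) <;> rw [h]
        · exact one_mem _
        · exact hzZ₀
        · exact hz1Z₀
        · exact Z₀.mul_mem hzZ₀ hz1Z₀
    have hcard4 : Nat.card ↥Z₀ = 4 := by
      have h1 : Nat.card ↥Z₀ = (Z₀ : Set G).ncard := Nat.card_coe_set_eq (Z₀ : Set G)
      rw [h1, hset]
      have n1 : (1 : G) ∉ ({z, z1, z * z1} : Set G) := by
        simp only [Set.mem_insert_iff, Set.mem_singleton_iff, not_or]
        exact ⟨fun h => hzne h.symm, fun h => hz1ne h.symm, fun h => hzz1ne h.symm⟩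
      have n2 : z ∉ ({z1, z * z1} : Set G) := by
        simp only [Set.mem_insert_iff, Set.mem_singleton_iff, not_or]
        refine ⟨hzz1, fun h => hz1ne ?_⟩
        have h' : z * 1 = z * z1 := by rw [mul_one]; exact h
        exact (mul_left_cancel h').symm
      have n3 : z1 ≠ z * z1 := by
        intro h
        apply hzne
        have h' : 1 * z1 = z * z1 := by rw [one_mul]; exact h
        exact (mul_right_cancel h').symm
      rw [Set.ncard_insert_of_notMem n1, Set.ncard_insert_of_notMem n2, Set.ncard_pair n3]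
    have hxz1 : x * z1 * x⁻¹ = z * z1 := by
      have hmem := hconj x hxNJ z1 hz1Z₀
      rcases hZ₀4 _ hmem with h | h | h | h
      · exact (hz1ne (eq_one_of_conj_eq_one h)).elim
      · exfalso
        rw [← hxz] at h
        exact hzz1 (eq_of_conj_eq h).symm
      · exfalso
        apply hxC z1 hz1Z₀ hz1C hz1ne
        rw [h]; exact hz1C
      · exact h
    have hTz1 : ∀ t ∈ T, t * z1 * t⁻¹ = z1 := by
      intro t ht
      have hmem := hconj t (hTNJ t ht) z1 hz1Z₀
      have htz : t * z * t⁻¹ = z := hSz t (hTS ht)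
      rcases hZ₀4 _ hmem with h | h | h | h
      · exact (hz1ne (eq_one_of_conj_eq_one h)).elim
      · exfalso
        rw [← htz] at h
        exact hzz1 (eq_of_conj_eq h).symm
      · exact h
      · exfalso
        have h5 : t⁻¹ * x ∈ Subgroup.centralizer ({z1} : Set G) := by
          rw [Subgroup.mem_centralizer_iff]
          intro q hq
          rw [Set.mem_singleton_iff] at hq
          rw [hq]
          have e : x * z1 * x⁻¹ = t * z1 * t⁻¹ := by rw [hxz1, h]
          have l : t⁻¹ * (x * z1 * x⁻¹) * x = t⁻¹ * x * z1 := by group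
          have r : t⁻¹ * (t * z1 * t⁻¹) * x = z1 * (t⁻¹ * x) := by group
          rw [← r, ← l, e]
        have h6 := hU z1 hz1Z₀ hz1C hz1ne h5
        have h7 := L.mul_mem (hTL ht) h6
        rw [mul_inv_cancel_left] at h7
        exact hxL h7
    have hΩ : omegaCenterOf T = Z₀ := by
      apply le_antisymm
      · intro y hy
        obtain ⟨h1, h2, h3⟩ := Cfsg.Agent.H63.Sn.mem_omegaCenterOf _ hy
        exact hZ₀of y h1 h2 h3
      · intro y hy
        have hyT : y ∈ T := hJT ((hZ₀mem y).mp hy).1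
        refine Cfsg.Agent.H63.Sn.omegaCenterOf_mem _ hyT ?_ ((hZ₀mem y).mp hy).2.2
        rw [Subgroup.mem_centralizer_iff]
        intro t ht
        have a1 : t * z = z * t := comm_of_conj (hSz t (hTS ht))
        have a2 : t * z1 = z1 * t := comm_of_conj (hTz1 t ht)
        rcases hZ₀4 y hy with h | h | h | h
        · rw [h, mul_one, one_mul]
        · rw [h]; exact a1
        · rw [h]; exact a2
        · rw [h, ← mul_assoc, a1, mul_assoc, a2, ← mul_assoc]
    have hCL : Subgroup.centralizer (Z₀ : Set G) ≤ L := by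
      intro c hc
      apply hU z1 hz1Z₀ hz1C hz1ne
      rw [Subgroup.mem_centralizer_iff]
      intro q hq
      rw [Set.mem_singleton_iff] at hq
      rw [hq]
      exact (Subgroup.mem_centralizer_iff.mp hc) z1 hz1Z₀
    have hcrit : ∀ b : G, b * z = z * b → b * z1 = z1 * b →
        b ∈ Subgroup.centralizer (Z₀ : Set G) := by
      intro b hbz hbz1
      rw [Subgroup.mem_centralizer_iff]
      intro y hy
      rcases hZ₀4 y hy with h | h | h | h
      · rw [h, mul_one, one_mul]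
      · rw [h]; exact hbz.symm
      · rw [h]; exact hbz1.symm
      · rw [h, mul_assoc, ← hbz1, ← mul_assoc, ← hbz, mul_assoc]
    have hZz : ∀ y ∈ Z, y = 1 ∨ y = z := by
      intro y hy
      rcases hZ₀4 y (hZZ₀ hy) with h | h | h | h
      · exact Or.inl h
      · exact Or.inr h
      · exfalso
        rw [h] at hy
        exact hz1ne (hZC z1 hy hz1C)
      · exfalso
        rw [h] at hy
        have h5 : z1 ∈ Z := by
          have h6 := Z.mul_mem (Z.inv_mem hzZ) hy
          rwa [inv_mul_cancel_left] at h6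
        exact hz1ne (hZC z1 h5 hz1C)
    have hCz : Subgroup.centralizer ({z} : Set G) ≤
        Subgroup.normalizer ((S : Subgroup G) : Set G) := by
      intro c hc
      apply hZ S
      rw [← hZdef, Subgroup.mem_centralizer_iff]
      intro y hy
      rcases hZz y hy with h | h
      · rw [h, one_mul, mul_one]
      · rw [h]; exact (Subgroup.mem_centralizer_iff.mp hc) z (Set.mem_singleton z)
    have hbad : ∀ g : G, g * z * g⁻¹ = z1 → False := by
      intro g hg
      have hNn : ∀ h ∈ K ⊔ thompsonSubgroupOf 2 T,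
          g⁻¹ * h * g ∈ Subgroup.normalizer ((S : Subgroup G) : Set G) := by
        intro h hh
        apply hCz
        rw [Subgroup.mem_centralizer_iff]
        intro q hq
        rw [Set.mem_singleton_iff] at hq
        rw [hq]
        have e := (cKJ_comm hz1C) h hh
        rw [← hg] at e
        calc z * (g⁻¹ * h * g) = g⁻¹ * ((g * z * g⁻¹) * h) * g := by group
          _ = g⁻¹ * (h * (g * z * g⁻¹)) * g := by rw [e]
          _ = g⁻¹ * h * g * z := by group
      have hJ2 : IsPGroup 2 ↥(thompsonSubgroupOf 2 T) := hT2.to_le hJT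
      have hJS : (thompsonSubgroupOf 2 T).map (MulAut.conj g⁻¹).toMonoidHom ≤ (S : Subgroup G) := by
        apply le_sylow_of_le_normalizer S (hJ2.map _)
        rintro _ ⟨j, hj, rfl⟩
        have h5 := hNn j (Subgroup.mem_sup_right hj)
        simpa [MulAut.conj_apply] using h5
      have hKS : K ≤ (S : Subgroup G).map (MulAut.conj g).toMonoidHom := by
        have hKc : ⁅K, thompsonSubgroupOf 2 T⁆ = K := hK.1.1.2.1
        rw [← hKc, Subgroup.commutator_le]
        intro k hk j hj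
        have hk' := hNn k (Subgroup.mem_sup_left hk)
        have hj' : g⁻¹ * j * g ∈ (S : Subgroup G) := by
          apply hJS
          exact ⟨j, hj, by simp [MulAut.conj_apply]⟩
        refine ⟨⁅g⁻¹ * k * g, g⁻¹ * j * g⁆, ?_, ?_⟩
        · rw [commutatorElement_def]
          exact (S : Subgroup G).mul_mem ((Subgroup.mem_normalizer_iff.mp hk' _).mp hj')
            ((S : Subgroup G).inv_mem hj')
        · simp only [MulEquiv.toMonoidHom_eq_coe, MonoidHom.coe_coe, MulAut.conj_apply,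
            commutatorElement_def]
          group
      have hK2 : IsPGroup 2 ↥K := (S.isPGroup'.map _).to_le hKS
      have h3 : (pCoreOf 2 K).relIndex K = 3 := hK.1.1.2.2.1
      obtain ⟨n, hn⟩ := hK2.exists_card_eq
      have hdvd : (3 : ℕ) ∣ 2 ^ n := by
        rw [← hn, ← h3]; exact Subgroup.relIndex_dvd_card _ _
      have h32 := Nat.Prime.dvd_of_dvd_pow Nat.prime_three hdvd
      omega
    have hxNZ : x ∈ Subgroup.normalizer (Z₀ : Set G) := by
      rw [Subgroup.mem_normalizer_iff]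
      intro y
      constructor
      · exact hconj x hxNJ y
      · intro hy
        have h5 := hconj x⁻¹ (Subgroup.inv_mem _ hxNJ) _ hy
        have e : x⁻¹ * (x * y * x⁻¹) * x⁻¹⁻¹ = y := by group
        rwa [e] at h5
    have hbz : ∀ b ∈ Subgroup.normalizer (Z₀ : Set G), b * z * b⁻¹ = z := by
      intro b hb
      have hmem : b * z * b⁻¹ ∈ Z₀ := (Subgroup.mem_normalizer_iff.mp hb z).mp hzZ₀
      rcases hZ₀4 _ hmem with h | h | h | h
      · exact (hzne (eq_one_of_conj_eq_one h)).elim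
      · exact h
      · exact (hbad b h).elim
      · exfalso
        apply hbad (x * b)
        calc x * b * z * (x * b)⁻¹ = x * (b * z * b⁻¹) * x⁻¹ := by group
          _ = x * (z * z1) * x⁻¹ := by rw [h]
          _ = (x * z * x⁻¹) * (x * z1 * x⁻¹) := by group
          _ = z * (z * z1) := by rw [hxz, hxz1]
          _ = z1 := by rw [← mul_assoc, hsq z hzZ₀, one_mul]
    have hrel : (L ⊓ Subgroup.centralizer (Z₀ : Set G)).relIndex
        (Subgroup.normalizer (Z₀ : Set G)) = 2 := by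
      rw [Subgroup.relIndex_eq_two_iff]
      refine ⟨x, hxNZ, ?_⟩
      intro b hb
      have hbz' := hbz b hb
      have hbz1 : b * z1 * b⁻¹ = z1 ∨ b * z1 * b⁻¹ = z * z1 := by
        have hmem : b * z1 * b⁻¹ ∈ Z₀ := (Subgroup.mem_normalizer_iff.mp hb z1).mp hz1Z₀
        rcases hZ₀4 _ hmem with h | h | h | h
        · exact (hz1ne (eq_one_of_conj_eq_one h)).elim
        · exfalso
          rw [← hbz'] at h
          exact hzz1 (eq_of_conj_eq h).symm
        · exact Or.inl h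
        · exact Or.inr h
      rcases hbz1 with h | h
      · refine Or.inr ⟨?_, ?_⟩
        · have hbC := hcrit b (comm_of_conj hbz') (comm_of_conj h)
          exact ⟨hCL hbC, hbC⟩
        · intro hbx
          have hc := (Subgroup.mem_centralizer_iff.mp hbx.2) z1 hz1Z₀
          have e : b * x * z1 * (b * x)⁻¹ = z * z1 := by
            calc b * x * z1 * (b * x)⁻¹ = b * (x * z1 * x⁻¹) * b⁻¹ := by group
              _ = b * (z * z1) * b⁻¹ := by rw [hxz1]
              _ = (b * z * b⁻¹) * (b * z1 * b⁻¹) := by group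
              _ = z * z1 := by rw [hbz', h]
          have e2 : b * x * z1 * (b * x)⁻¹ = z1 := by rw [← hc, mul_inv_cancel_right]
          rw [e] at e2
          exact hzne (mul_right_cancel (e2.trans (one_mul z1).symm))
      · refine Or.inl ⟨?_, ?_⟩
        · have e1 : b * x * z * (b * x)⁻¹ = z := by
            calc b * x * z * (b * x)⁻¹ = b * (x * z * x⁻¹) * b⁻¹ := by group
              _ = z := by rw [hxz, hbz']
          have e2 : b * x * z1 * (b * x)⁻¹ = z1 := by
            calc b * x * z1 * (b * x)⁻¹ = b * (x * z1 * x⁻¹) * b⁻¹ := by group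
              _ = b * (z * z1) * b⁻¹ := by rw [hxz1]
              _ = (b * z * b⁻¹) * (b * z1 * b⁻¹) := by group
              _ = z * (z * z1) := by rw [hbz', h]
              _ = z1 := by rw [← mul_assoc, hsq z hzZ₀, one_mul]
          have hbC := hcrit (b * x) (comm_of_conj e1) (comm_of_conj e2)
          exact ⟨hCL hbC, hbC⟩
        · intro hbL
          have hc := (Subgroup.mem_centralizer_iff.mp hbL.2) z1 hz1Z₀
          have e2 : b * z1 * b⁻¹ = z1 := by rw [← hc, mul_inv_cancel_right]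
          rw [h] at e2
          exact hzne (mul_right_cancel (e2.trans (one_mul z1).symm))
    exact ⟨hWne, Or.inr (Or.inr ⟨hΩ, hcard4, hrel⟩)⟩

end Cfsg.Agent.H58.Jz

#print axioms Cfsg.Agent.H58.Jz.lt_half
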