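import Mathlib
import Cfsg.Prelude.Def_Balance
import Cfsg.Agent.S0024
import Cfsg.Agent.S0025
import Cfsg.Agent.S1280
import Cfsg.Agent.S1282
import Cfsg.Agent.H58.Sig2

set_option autoImplicit false

namespace Cfsg.Agent.H58

open Cfsg.Agent.H27 (mem_map_conj_iff)

variable {G : Type*} [Group G]

/-- An invariant subgroup of a member of the family of a signalizer functor is in the family. -/
theorem family_of_le {p : ℕ} {A : Subgroup G} {θ : G → Subgroup G} {U V : Subgroup G}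
    (hU : U ∈ Cfsg.signalizerFamily p A θ) (hVU : V ≤ U)
    (hVA : ∀ b ∈ A, ∀ v ∈ V, b * v * b⁻¹ ∈ V) : V ∈ Cfsg.signalizerFamily p A θ := by
  obtain ⟨hs, hp, hA, hθ⟩ := hU
  refine ⟨?_, ?_, hVA, ?_⟩
  · exact Group.isSolvable_of_isSolvable_injective (Subgroup.inclusion_injective hVU)
  · exact fun h => hp (h.trans (Subgroup.card_dvd_of_le hVU))
  · intro a ha ha1
    exact le_trans (inf_le_inf_right _ hVU) (hθ a ha ha1)

/-- An invariant subgroup of `θ a` is in the family. -/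
theorem family_of_le_theta {p : ℕ} {A : Subgroup G} {θ : G → Subgroup G}
    (hθ : Cfsg.IsSolvableSignalizerFunctor p A θ) {a : G} (ha : a ∈ A) (ha1 : a ≠ 1)
    {V : Subgroup G} (hV : V ≤ θ a) (hVA : ∀ b ∈ A, ∀ v ∈ V, b * v * b⁻¹ ∈ V) :
    V ∈ Cfsg.signalizerFamily p A θ := by
  obtain ⟨⟨hθC, hθp, hθA, hθbal⟩, hθs⟩ := hθ
  refine ⟨?_, ?_, hVA, ?_⟩
  · have := hθs a ha ha1
    exact Group.isSolvable_of_isSolvable_injective (Subgroup.inclusion_injective hV)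
  · exact fun h => hθp a ha ha1 (h.trans (Subgroup.card_dvd_of_le hV))
  · intro b hb hb1
    exact le_trans (inf_le_inf_right _ hV) (hθbal a ha ha1 b hb hb1)

/-- Membership in `θ(C_G(A))`. -/
theorem mem_sigInf {A : Subgroup G} {θ : G → Subgroup G} {c : G} :
    c ∈ Cfsg.signalizerInf A θ ↔ ∀ b ∈ A, b ≠ 1 → c ∈ θ b := by
  unfold Cfsg.signalizerInf
  rw [Subgroup.mem_iInf]
  constructor
  · intro h b hb hb1; exact h ⟨b, hb, hb1⟩
  · rintro h ⟨b, hb, hb1⟩; exact h b hb hb1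

/-- `θ(C_G(A))` centralizes `A`. -/
theorem sigInf_comm {p : ℕ} {A : Subgroup G} {θ : G → Subgroup G}
    (hθ : Cfsg.IsSignalizerFunctor p A θ) {c : G} (hc : c ∈ Cfsg.signalizerInf A θ) :
    ∀ b ∈ A, b * c = c * b := by
  intro b hb
  by_cases hb1 : b = 1
  · rw [hb1]; simp
  · have h1 : c ∈ θ b := mem_sigInf.mp hc b hb hb1
    have h2 := hθ.1 b hb hb1 h1
    exact (Subgroup.mem_centralizer_singleton_iff.mp h2).symm

/-- The family of a signalizer functor is invariant under conjugation by `θ(C_G(A))`. -/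
theorem family_conj {p : ℕ} {A : Subgroup G} {θ : G → Subgroup G}
    (hθ : Cfsg.IsSignalizerFunctor p A θ) {c : G} (hc : c ∈ Cfsg.signalizerInf A θ)
    {U : Subgroup G} (hU : U ∈ Cfsg.signalizerFamily p A θ) :
    U.map (MulAut.conj c).toMonoidHom ∈ Cfsg.signalizerFamily p A θ := by
  obtain ⟨hs, hp, hA, hUθ⟩ := hU
  have hcb := sigInf_comm hθ hc
  refine ⟨?_, ?_, ?_, ?_⟩
  · exact Group.isSolvable_of_surjective ((MulAut.conj c).toMonoidHom.subgroupMap_surjective U)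
  · have : Nat.card ↥(U.map (MulAut.conj c).toMonoidHom) = Nat.card ↥U :=
      (Nat.card_congr (U.equivMapOfInjective _ (MulAut.conj c).injective).toEquiv).symm
    rw [this]; exact hp
  · intro b hb x hx
    rw [mem_map_conj_iff] at hx ⊢
    have h1 : Commute b c := hcb b hb
    have e : c⁻¹ * (b * x * b⁻¹) * c = b * (c⁻¹ * x * c) * b⁻¹ := by
      calc c⁻¹ * (b * x * b⁻¹) * c = (c⁻¹ * b) * x * (b⁻¹ * c) := by group
        _ = (b * c⁻¹) * x * (c * b⁻¹) := by rw [h1.inv_right.eq, h1.inv_left.eq]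
        _ = b * (c⁻¹ * x * c) * b⁻¹ := by group
    rw [e]; exact hA b hb _ hx
  · intro b hb hb1 x hx
    have hx1 := (Subgroup.mem_inf.mp hx).1
    have hx2 := (Subgroup.mem_inf.mp hx).2
    rw [mem_map_conj_iff] at hx1
    have hcθ : c ∈ θ b := mem_sigInf.mp hc b hb hb1
    have hcC : c ∈ Subgroup.centralizer ({b} : Set G) :=
      Subgroup.mem_centralizer_singleton_iff.mpr (hcb b hb).symm
    have h1 : c⁻¹ * x * c ∈ θ b := hUθ b hb hb1
      ⟨hx1, Subgroup.mul_mem _ (Subgroup.mul_mem _ (Subgroup.inv_mem _ hcC) hx2) hcC⟩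
    have : x = c * (c⁻¹ * x * c) * c⁻¹ := by group
    rw [this]; exact (θ b).mul_mem ((θ b).mul_mem hcθ h1) ((θ b).inv_mem hcθ)

/-- Maximal `q`-members of the family of a signalizer functor. -/
def IsMaxQ (p : ℕ) (A : Subgroup G) (θ : G → Subgroup G) (q : ℕ) (Q : Subgroup G) : Prop :=
  Q ∈ Cfsg.signalizerFamily p A θ ∧ IsPGroup q ↥Q ∧
    ∀ R ∈ Cfsg.signalizerFamily p A θ, IsPGroup q ↥R → Q ≤ R → R = Q

/-- Every `q`-member of the family lies in a maximal one. -/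
theorem exists_isMaxQ_ge [Finite G] {p : ℕ} {A : Subgroup G} {θ : G → Subgroup G} {q : ℕ}
    {T : Subgroup G} (hT : T ∈ Cfsg.signalizerFamily p A θ) (hTq : IsPGroup q ↥T) :
    ∃ Q, IsMaxQ p A θ q Q ∧ T ≤ Q := by
  classical
  have hne : Nonempty {R : Subgroup G // R ∈ Cfsg.signalizerFamily p A θ ∧ IsPGroup q ↥R ∧ T ≤ R} :=
    ⟨⟨T, hT, hTq, le_rfl⟩⟩
  obtain ⟨⟨Q, hQ1, hQ2, hQ3⟩, hmax⟩ := Finite.exists_max
    (fun R : {R : Subgroup G // R ∈ Cfsg.signalizerFamily p A θ ∧ IsPGroup q ↥R ∧ T ≤ R} =>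
      Nat.card ↥(R : Subgroup G))
  refine ⟨Q, ⟨hQ1, hQ2, ?_⟩, hQ3⟩
  intro R hR hRq hQR
  have h1 := hmax ⟨R, hR, hRq, hQ3.trans hQR⟩
  exact (Subgroup.eq_of_le_of_card_ge hQR h1).symm

/-- Conjugates of maximal `q`-members under `θ(C_G(A))` are maximal. -/
theorem isMaxQ_conj {p : ℕ} {A : Subgroup G} {θ : G → Subgroup G} {q : ℕ}
    (hθ : Cfsg.IsSignalizerFunctor p A θ) {c : G} (hc : c ∈ Cfsg.signalizerInf A θ)
    {Q : Subgroup G} (hQ : IsMaxQ p A θ q Q) :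
    IsMaxQ p A θ q (Q.map (MulAut.conj c).toMonoidHom) := by
  obtain ⟨h1, h2, h3⟩ := hQ
  refine ⟨family_conj hθ hc h1, h2.map _, ?_⟩
  intro R hR hRq hle
  have hc' : c⁻¹ ∈ Cfsg.signalizerInf A θ := Subgroup.inv_mem _ hc
  have h4 := h3 _ (family_conj hθ hc' hR) (hRq.map _) (by
    intro x hx
    rw [mem_map_conj_iff]
    apply hle
    rw [mem_map_conj_iff]
    have : c⁻¹ * (c⁻¹⁻¹ * x * c⁻¹) * c = x := by group
    rw [this]; exact hx)
  ext x
  rw [mem_map_conj_iff, ← h4, mem_map_conj_iff]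
  have : c⁻¹⁻¹ * (c⁻¹ * x * c) * c⁻¹ = x := by group
  rw [this]

/-- Strict growth of cardinality. -/
theorem card_lt_of_mem_not_mem [Finite G] {D K : Subgroup G} (h : D ≤ K) {r : G} (hr : r ∈ K)
    (hrD : r ∉ D) : Nat.card ↥D < Nat.card ↥K := by
  by_contra hc
  push Not at hc
  have := Subgroup.eq_of_le_of_card_ge h hc
  exact hrD (this ▸ hr)

/-- Conjugate Sylow subgroups of a subgroup, seen in the ambient group. -/
theorem mem_map_conj_smul_sylow {q : ℕ} {H : Subgroup G} (P₁ P₂ : Sylow q ↥H) (c : ↥H)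
    (h : MulAut.conj c • P₁ = P₂) (x : G) :
    x ∈ (P₂ : Subgroup ↥H).map H.subtype ↔
      (c : G)⁻¹ * x * c ∈ (P₁ : Subgroup ↥H).map H.subtype := by
  have key : ∀ z : ↥H, z ∈ (P₂ : Subgroup ↥H) ↔ c⁻¹ * z * c ∈ (P₁ : Subgroup ↥H) := by
    intro z
    rw [← h, Sylow.pointwise_smul_def, Subgroup.mem_pointwise_smul_iff_inv_smul_mem]
    simp [MulAut.smul_def]
  constructor
  · rintro ⟨z, hz, rfl⟩
    exact ⟨c⁻¹ * z * c, (key z).mp hz, rfl⟩
  · rintro ⟨y, hy, hyx⟩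
    have hy' : c⁻¹ * (c * y * c⁻¹) * c ∈ (P₁ : Subgroup ↥H) := by
      have e : c⁻¹ * (c * y * c⁻¹) * c = y := by group
      rw [e]; exact hy
    refine ⟨c * y * c⁻¹, (key _).mpr hy', ?_⟩
    have hyx' : (y : G) = (c : G)⁻¹ * x * c := hyx
    simp only [Subgroup.coe_subtype, Subgroup.coe_mul, Subgroup.coe_inv]
    rw [hyx']; group

end Cfsg.Agent.H58
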