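import Mathlib
import Cfsg.Prelude.Def_Balance
import Cfsg.Agent.S0023
import Cfsg.Agent.S0024
import Cfsg.Agent.S0025
import Cfsg.Agent.H58.Sig3

set_option autoImplicit false

/-!
# Invariant Sylow subgroups under coprime action, by cardinality (helper58)

* `card_le_pow_factorization` : a `q`-subgroup of `L` has order at most `|L|_q`.
* `card_map_sylow` : a Sylow `q`-subgroup of `L`, seen in the ambient group, has order `|L|_q`.
* `card_inf_of_invariant_sylow` : if `Q` is an `A`-invariant Sylow `q`-subgroup of `K` and `L ≤ K`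
  is `A`-invariant and normalized by `C_K(A)`, then `Q ∩ L` is a Sylow `q`-subgroup of `L`.
* `exists_invariant_sylow_chain` : an `A`-invariant Sylow `q`-subgroup of `K` meeting `Y` and
  `X ∩ Y` in Sylow `q`-subgroups.
-/

namespace Cfsg.Agent.H58

open Cfsg.Agent.H27 (mem_map_conj_iff)

variable {H : Type*} [Group H]

/-- A `q`-subgroup of `L` has order at most the `q`-part of `|L|`. -/
theorem card_le_pow_factorization [Finite H] {q : ℕ} [Fact q.Prime] {R L : Subgroup H}
    (hR : IsPGroup q ↥R) (hRL : R ≤ L) : Nat.card ↥R ≤ q ^ (Nat.card ↥L).factorization q := by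
  have hq : q.Prime := Fact.out
  obtain ⟨n, hn⟩ := IsPGroup.iff_card.mp hR
  have hdvd : q ^ n ∣ Nat.card ↥L := hn ▸ Subgroup.card_dvd_of_le hRL
  have := (Nat.Prime.pow_dvd_iff_le_factorization hq (Nat.card_pos (α := ↥L)).ne').mp hdvd
  rw [hn]; exact Nat.pow_le_pow_right hq.pos this

/-- A Sylow `q`-subgroup of `L`, seen in the ambient group, has order the `q`-part of `|L|`. -/
theorem card_map_sylow [Finite H] {q : ℕ} [Fact q.Prime] {L : Subgroup H} (T : Sylow q ↥L) :
    Nat.card ↥((T : Subgroup ↥L).map L.subtype) = q ^ (Nat.card ↥L).factorization q := by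
  rw [Subgroup.card_map_of_injective (Subgroup.subtype_injective _)]
  exact T.card_eq_multiplicity

/-- If `Q` is an `A`-invariant Sylow `q`-subgroup of `K` and `L ≤ K` is `A`-invariant and
normalized by `C_K(A)`, then `Q ∩ L` is a Sylow `q`-subgroup of `L`. -/
theorem card_inf_of_invariant_sylow [Finite H] {q : ℕ} [Fact q.Prime] (A K L Q : Subgroup H)
    (hAK : A ≤ Subgroup.normalizer (K : Set H)) (hcop : (Nat.card ↥A).Coprime (Nat.card ↥K))
    (hAs : Group.IsSolvable ↥A) (hLK : L ≤ K) (hAL : A ≤ Subgroup.normalizer (L : Set H))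
    (hCL : K ⊓ Subgroup.centralizer (A : Set H) ≤ Subgroup.normalizer (L : Set H))
    (hQK : Q ≤ K) (hQq : IsPGroup q ↥Q) (hAQ : A ≤ Subgroup.normalizer (Q : Set H))
    (hQc : Nat.card ↥Q = q ^ (Nat.card ↥K).factorization q) :
    Nat.card ↥(Q ⊓ L) = q ^ (Nat.card ↥L).factorization q := by
  have hcopL : (Nat.card ↥A).Coprime (Nat.card ↥L) :=
    Nat.Coprime.coprime_dvd_right (Subgroup.card_dvd_of_le hLK) hcop
  obtain ⟨T, hT⟩ := Cfsg.Agent.S0023.result A L hAL hcopL (Or.inl hAs) q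
  have hTq : IsPGroup q ↥((T : Subgroup ↥L).map L.subtype) := T.isPGroup'.map _
  have hTL : (T : Subgroup ↥L).map L.subtype ≤ L := Subgroup.map_subtype_le _
  obtain ⟨P₂, hTP₂, hAP₂⟩ := Cfsg.Agent.S0025.result A K hAK hcop (Or.inl hAs) q _
    (hTL.trans hLK) hTq hT
  -- `Q` as a Sylow subgroup of `K`
  have hQc' : Nat.card ↥(Q.subgroupOf K) = q ^ (Nat.card ↥K).factorization q := by
    rw [← hQc]; exact Nat.card_congr (Subgroup.subgroupOfEquivOfLe hQK).toEquiv
  have hQmap : ((Sylow.ofCard (Q.subgroupOf K) hQc' : Sylow q ↥K) : Subgroup ↥K).map K.subtype =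
      Q := by
    rw [Sylow.coe_ofCard, Subgroup.subgroupOf_map_subtype]; exact inf_eq_left.mpr hQK
  obtain ⟨c, hcA, hc⟩ := Cfsg.Agent.S0024.result A K hAK hcop (Or.inl hAs) q P₂
    (Sylow.ofCard (Q.subgroupOf K) hQc') hAP₂ (by rw [hQmap]; exact hAQ)
  have hconj := mem_map_conj_smul_sylow P₂ _ c hc
  have hcN : (c : H) ∈ Subgroup.normalizer (L : Set H) := hCL (Subgroup.mem_inf.mpr ⟨c.2, hcA⟩)
  have hle : ((T : Subgroup ↥L).map L.subtype).map (MulAut.conj (c : H)).toMonoidHom ≤ Q ⊓ L := by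
    intro x hx
    rw [mem_map_conj_iff] at hx
    refine Subgroup.mem_inf.mpr ⟨?_, ?_⟩
    · rw [← hQmap]; exact (hconj x).mpr (hTP₂ hx)
    · have h1 := hTL hx
      have := (Subgroup.mem_normalizer_iff.mp hcN _).mp h1
      have e : (c : H) * ((c : H)⁻¹ * x * c) * (c : H)⁻¹ = x := by group
      rw [e] at this
      exact this
  have hcard : Nat.card ↥(((T : Subgroup ↥L).map L.subtype).map (MulAut.conj (c : H)).toMonoidHom) =
      q ^ (Nat.card ↥L).factorization q := by
    rw [Subgroup.card_map_of_injective (MulAut.conj (c : H)).injective, card_map_sylow]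
  apply le_antisymm (card_le_pow_factorization (hQq.to_le inf_le_left) inf_le_right)
  rw [← hcard]; exact Subgroup.card_le_of_le hle

/-- An `A`-invariant Sylow `q`-subgroup of `K` meeting `Y` and `X ∩ Y` in Sylow `q`-subgroups. -/
theorem exists_invariant_sylow_chain [Finite H] {q : ℕ} [Fact q.Prime] (A K X Y : Subgroup H)
    (hAK : A ≤ Subgroup.normalizer (K : Set H)) (hcop : (Nat.card ↥A).Coprime (Nat.card ↥K))
    (hAs : Group.IsSolvable ↥A) (hYK : Y ≤ K) (hAX : A ≤ Subgroup.normalizer (X : Set H))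
    (hAY : A ≤ Subgroup.normalizer (Y : Set H)) :
    ∃ Q : Subgroup H, Q ≤ K ∧ IsPGroup q ↥Q ∧ A ≤ Subgroup.normalizer (Q : Set H) ∧
      Nat.card ↥Q = q ^ (Nat.card ↥K).factorization q ∧
      Nat.card ↥(Q ⊓ Y) = q ^ (Nat.card ↥Y).factorization q ∧
      Nat.card ↥(Q ⊓ (X ⊓ Y)) = q ^ (Nat.card ↥(X ⊓ Y)).factorization q := by
  have hcopY : (Nat.card ↥A).Coprime (Nat.card ↥Y) :=
    Nat.Coprime.coprime_dvd_right (Subgroup.card_dvd_of_le hYK) hcop
  have hcopXY : (Nat.card ↥A).Coprime (Nat.card ↥(X ⊓ Y)) :=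
    Nat.Coprime.coprime_dvd_right (Subgroup.card_dvd_of_le inf_le_right) hcopY
  have hAXY : A ≤ Subgroup.normalizer ((X ⊓ Y : Subgroup H) : Set H) := by
    intro b hb
    rw [Subgroup.mem_normalizer_iff]
    intro g
    rw [Subgroup.mem_inf, Subgroup.mem_inf, ← Subgroup.mem_normalizer_iff.mp (hAX hb) g,
      ← Subgroup.mem_normalizer_iff.mp (hAY hb) g]
  obtain ⟨Q₀, hQ₀⟩ := Cfsg.Agent.S0023.result A (X ⊓ Y) hAXY hcopXY (Or.inl hAs) q
  have hQ₀le : (Q₀ : Subgroup ↥(X ⊓ Y)).map (X ⊓ Y).subtype ≤ X ⊓ Y := Subgroup.map_subtype_le _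
  obtain ⟨PY, hQ₀PY, hAPY⟩ := Cfsg.Agent.S0025.result A Y hAY hcopY (Or.inl hAs) q _
    (hQ₀le.trans inf_le_right) (Q₀.isPGroup'.map _) hQ₀
  have hPYle : (PY : Subgroup ↥Y).map Y.subtype ≤ Y := Subgroup.map_subtype_le _
  obtain ⟨P, hPYP, hAP⟩ := Cfsg.Agent.S0025.result A K hAK hcop (Or.inl hAs) q _
    (hPYle.trans hYK) (PY.isPGroup'.map _) hAPY
  have hPq : IsPGroup q ↥((P : Subgroup ↥K).map K.subtype) := P.isPGroup'.map _
  refine ⟨(P : Subgroup ↥K).map K.subtype, Subgroup.map_subtype_le _, hPq, hAP, card_map_sylow P,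
    ?_, ?_⟩
  · apply le_antisymm (card_le_pow_factorization (hPq.to_le inf_le_left) inf_le_right)
    rw [← card_map_sylow PY]
    exact Subgroup.card_le_of_le (le_inf hPYP hPYle)
  · apply le_antisymm (card_le_pow_factorization (hPq.to_le inf_le_left) inf_le_right)
    rw [← card_map_sylow Q₀]
    exact Subgroup.card_le_of_le (le_inf (hQ₀PY.trans hPYP) hQ₀le)

end Cfsg.Agent.H58
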